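import Cfsg.Agent.Lib.PReduced.Tools
import Cfsg.Agent.Lib.Cores.Basic

/-!
# `Y_L` for subgroups of an ambient group, and the families `𝓛`, `𝔐`

All statements live in the ambient group `G` (namespace `Cfsg.Agent.LargeSub`).
* `pCoreOf` API: `isPGroup_pCoreOf`, `le_pCoreOf`, `le_normalizer_pCoreOf`, `pCoreOf_le_of_sylow_le`.
* `yOf` API (`largestPReducedOf`): `yOf_le`, `yOf_normalized`, `yOf_elementary`, `yOf_reduced`, `le_yOf`,
  `le_centralizer_pCoreOf_yOf`, `omega_center_le_yOf`, `le_yOf_of_same_image`, `yOf_mono`.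
* `mem_charP_iff`, `charP_of_le`, `charP_of_parabolic`.
* `IsInFrakM` API: `dag_le_normalizer`, `pCoreOf_eq_inf`, `le_dag_of_charP`.
-/

set_option autoImplicit false

namespace Cfsg.Agent.LargeSub

open Subgroup

variable {G : Type*} [Group G] {p : ℕ}

/-! ### Generalities -/

theorem mem_sup_mul {A C : Subgroup G} (h : A ≤ normalizer (C : Set G)) {x : G} :
    x ∈ A ⊔ C ↔ ∃ a ∈ A, ∃ c ∈ C, a * c = x := by
  rw [← SetLike.mem_coe, coe_mul_of_left_le_normalizer_right A C h]
  rfl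

theorem centralizer_normalized {V : Subgroup G} :
    normalizer (V : Set G) ≤ normalizer (centralizer (V : Set G) : Set G) := by
  refine le_normalizer_iff.mpr fun g hg x hx => ?_
  rw [mem_centralizer_iff]
  intro v hv
  have hv' : g⁻¹ * v * g ∈ V := (mem_normalizer_iff''.mp hg v).mp hv
  have h := mem_centralizer_iff.mp hx _ hv'
  calc v * (g * x * g⁻¹) = g * (g⁻¹ * v * g * x) * g⁻¹ := by group
    _ = g * (x * (g⁻¹ * v * g)) * g⁻¹ := by rw [h]
    _ = _ := by group

theorem le_normalizer_inf_centralizer {L V : Subgroup G} (hV : L ≤ normalizer (V : Set G)) :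
    L ≤ normalizer ((L ⊓ centralizer (V : Set G) : Subgroup G) : Set G) :=
  (le_inf Subgroup.le_normalizer (hV.trans centralizer_normalized)).trans
    inf_normalizer_le_normalizer_inf

theorem pow_mul_mem {C : Subgroup G} {n c : G} (hn : n ∈ normalizer (C : Set G)) (hc : c ∈ C)
    (m : ℕ) : ∃ c' ∈ C, (n * c) ^ m = n ^ m * c' := by
  induction m with
  | zero => exact ⟨1, C.one_mem, by simp⟩
  | succ m ih =>
    obtain ⟨c', hc', h⟩ := ih
    refine ⟨n⁻¹ * c' * n * c, C.mul_mem ((mem_normalizer_iff''.mp hn c').mp hc') hc, ?_⟩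
    rw [pow_succ, h, pow_succ]; group

theorem pMod_subgroupOf_iff {L C N : Subgroup G} (hN : N ≤ L) :
    PReduced.pMod p (C.subgroupOf L) (N.subgroupOf L) ↔ PReduced.pMod p C N := by
  constructor
  · intro h x hx
    exact (h ⟨x, hN hx⟩ hx).imp fun k hk => hk
  · intro h x hx
    exact (h x hx).imp fun k hk => hk

theorem centralizer_subgroupOf {L V : Subgroup G} (hV : V ≤ L) :
    (centralizer (V : Set G)).subgroupOf L = centralizer ((V.subgroupOf L : Subgroup L) : Set L) := by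
  ext x
  rw [mem_subgroupOf, mem_centralizer_iff, mem_centralizer_iff]
  constructor
  · exact fun h v hv => Subtype.ext (h v hv)
  · exact fun h v hv => congrArg Subtype.val (h ⟨v, hV hv⟩ hv)

theorem isElementaryAbelian_subgroupOf {L V : Subgroup G} (hV : V ≤ L) :
    Cfsg.IsElementaryAbelian p (V.subgroupOf L) ↔ Cfsg.IsElementaryAbelian p V := by
  constructor
  · rintro ⟨hc, he⟩
    refine ⟨PReduced.isMulCommutative_of_forall fun a ha b hb => ?_, fun a ha => ?_⟩
    · exact congrArg Subtype.val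
        (PReduced.commute_of_isMulCommutative hc (a := ⟨a, hV ha⟩) (b := ⟨b, hV hb⟩) ha hb)
    · exact congrArg Subtype.val (he ⟨a, hV ha⟩ ha)
  · rintro ⟨hc, he⟩
    exact ⟨PReduced.isMulCommutative_of_forall fun a ha b hb =>
      Subtype.ext (PReduced.commute_of_isMulCommutative hc ha hb), fun a ha => Subtype.ext (he _ ha)⟩

/-! ### `pCoreOf` -/

theorem pCoreOf_le (L : Subgroup G) : Cfsg.pCoreOf p L ≤ L := map_subtype_le _

theorem isPGroup_pCoreOf (L : Subgroup G) : IsPGroup p (Cfsg.pCoreOf p L) :=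
  (Cores.isPGroup_pCore p L).map _

theorem le_pCoreOf {L N : Subgroup G} (hN : N ≤ L) (hL : L ≤ normalizer (N : Set G))
    (hp : IsPGroup p N) : N ≤ Cfsg.pCoreOf p L := fun x hx =>
  ⟨⟨x, hN hx⟩, Cores.le_pCore (Cores.subgroupOf_normal_of_le_normalizer hL)
    (hp.of_equiv (subgroupOfEquivOfLe hN).symm) hx, rfl⟩

theorem le_normalizer_pCoreOf (L : Subgroup G) :
    normalizer (L : Set G) ≤ normalizer (Cfsg.pCoreOf p L : Set G) :=
  Cores.normalizer_le_normalizer_map _

theorem self_le_normalizer_pCoreOf (L : Subgroup G) :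
    L ≤ normalizer (Cfsg.pCoreOf p L : Set G) :=
  Subgroup.le_normalizer.trans (le_normalizer_pCoreOf L)

theorem pCoreOf_eq_bot_iff {L : Subgroup G} : Cfsg.pCoreOf p L = ⊥ ↔ Cfsg.pCore p L = ⊥ :=
  map_eq_bot_iff_of_injective _ L.subtype_injective

theorem centralizer_pCore_iff {L : Subgroup G} :
    centralizer (Cfsg.pCore p L : Set L) ≤ Cfsg.pCore p L ↔
      L ⊓ centralizer (Cfsg.pCoreOf p L : Set G) ≤ Cfsg.pCoreOf p L := by
  constructor
  · rintro h x ⟨hx, hxc⟩
    exact ⟨⟨x, hx⟩, h (mem_centralizer_iff.mpr fun r hr =>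
      Subtype.ext (mem_centralizer_iff.mp hxc r ⟨r, hr, rfl⟩)), rfl⟩
  · intro h x hx
    obtain ⟨y, hy, hyx⟩ := h (mem_inf.mpr ⟨x.2, mem_centralizer_iff.mpr (by
      rintro _ ⟨r, hr, rfl⟩
      exact congrArg Subtype.val (mem_centralizer_iff.mp hx r hr))⟩)
    exact L.subtype_injective hyx ▸ hy

variable [Finite G] [Fact p.Prime]

theorem pCoreOf_le_sylow (T : Sylow p G) {L : Subgroup G} (hTL : (T : Subgroup G) ≤ L) :
    Cfsg.pCoreOf p L ≤ (T : Subgroup G) := by
  rintro _ ⟨x, hx, rfl⟩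
  exact Cores.pCore_le_sylow (T.subtype hTL) hx

/-- For a Sylow subgroup `T ≤ L ≤ M`: `O_p(M) ≤ O_p(L)`. -/
theorem pCoreOf_le_pCoreOf (T : Sylow p G) {L M : Subgroup G} (hTL : (T : Subgroup G) ≤ L)
    (hLM : L ≤ M) : Cfsg.pCoreOf p M ≤ Cfsg.pCoreOf p L :=
  le_pCoreOf ((pCoreOf_le_sylow T (hTL.trans hLM)).trans hTL)
    (hLM.trans (self_le_normalizer_pCoreOf M)) (isPGroup_pCoreOf M)

/-! ### `Y_L` -/

theorem yOf_le (L : Subgroup G) : Cfsg.largestPReducedOf p L ≤ L := map_subtype_le _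

theorem yOf_subgroupOf (L : Subgroup G) :
    (Cfsg.largestPReducedOf p L).subgroupOf L = Cfsg.largestPReduced p L :=
  comap_map_eq_self_of_injective L.subtype_injective _

theorem yOf_normalized (L : Subgroup G) : L ≤ normalizer (Cfsg.largestPReducedOf p L : Set G) := by
  have h := (PReduced.largestPReduced_isPReducedNormal (G := L) p).1
  rw [← yOf_subgroupOf] at h
  exact (normal_subgroupOf_iff_le_normalizer (yOf_le L)).mp h

theorem yOf_elementary (L : Subgroup G) :
    Cfsg.IsElementaryAbelian p (Cfsg.largestPReducedOf p L) := by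
  rw [← isElementaryAbelian_subgroupOf (yOf_le L), yOf_subgroupOf]
  exact (PReduced.largestPReduced_isPReducedNormal (G := L) p).2.1

theorem yOf_isPGroup (L : Subgroup G) : IsPGroup p (Cfsg.largestPReducedOf p L) :=
  PReduced.isPGroup_of_isElementaryAbelian (yOf_elementary L)

/-- `O_p(L / C_L(Y_L)) = 1`, in membership form. -/
theorem yOf_reduced {L N : Subgroup G} (hN : N ≤ L) (hLN : L ≤ normalizer (N : Set G))
    (hmod : PReduced.pMod p (centralizer (Cfsg.largestPReducedOf p L : Set G)) N) :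
    N ≤ centralizer (Cfsg.largestPReducedOf p L : Set G) := by
  have h := (PReduced.isPReducedNormal_iff.mp
    (PReduced.largestPReduced_isPReducedNormal (G := L) p)).2.2 (N.subgroupOf L)
    (Cores.subgroupOf_normal_of_le_normalizer hLN)
  rw [← yOf_subgroupOf, ← centralizer_subgroupOf (yOf_le L)] at h
  intro x hx
  exact h ((pMod_subgroupOf_iff hN).mpr hmod) (x := ⟨x, hN hx⟩) hx

theorem le_yOf {L V : Subgroup G} (hV : V ≤ L) (hn : L ≤ normalizer (V : Set G))
    (he : Cfsg.IsElementaryAbelian p V)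
    (hred : ∀ N : Subgroup G, N ≤ L → L ≤ normalizer (N : Set G) →
      PReduced.pMod p (centralizer (V : Set G)) N → N ≤ centralizer (V : Set G)) :
    V ≤ Cfsg.largestPReducedOf p L := by
  have h : Cfsg.IsPReducedNormal p (V.subgroupOf L) := by
    rw [PReduced.isPReducedNormal_iff]
    refine ⟨Cores.subgroupOf_normal_of_le_normalizer hn, (isElementaryAbelian_subgroupOf hV).mpr he, ?_⟩
    intro N hN hmod
    rw [← centralizer_subgroupOf hV] at hmod ⊢
    have hNle : N.map L.subtype ≤ L := map_subtype_le _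
    have hback : (N.map L.subtype).subgroupOf L = N :=
      comap_map_eq_self_of_injective L.subtype_injective _
    rw [← hback] at hmod hN
    have h1 := hred _ hNle ((normal_subgroupOf_iff_le_normalizer hNle).mp hN)
      ((pMod_subgroupOf_iff hNle).mp hmod)
    intro x hx
    exact mem_subgroupOf.mpr (h1 ⟨x, hx, rfl⟩)
  have h2 := map_mono (f := L.subtype) (PReduced.le_largestPReduced h)
  rwa [map_subgroupOf_eq_of_le hV] at h2

theorem pCoreOf_le_centralizer_yOf (L : Subgroup G) :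
    Cfsg.pCoreOf p L ≤ centralizer (Cfsg.largestPReducedOf p L : Set G) :=
  yOf_reduced (pCoreOf_le L) (self_le_normalizer_pCoreOf L)
    (PReduced.pMod_of_isPGroup (isPGroup_pCoreOf L))

theorem yOf_le_pCoreOf (L : Subgroup G) : Cfsg.largestPReducedOf p L ≤ Cfsg.pCoreOf p L :=
  le_pCoreOf (yOf_le L) (yOf_normalized L) (yOf_isPGroup L)

theorem yOf_le_sylow (T : Sylow p G) {L : Subgroup G} (hTL : (T : Subgroup G) ≤ L) :
    Cfsg.largestPReducedOf p L ≤ (T : Subgroup G) :=
  (yOf_le_pCoreOf L).trans (pCoreOf_le_sylow T hTL)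

/-- `V` is `p`-reduced in `X` if it is in `L` and `L`, `X` induce the same group on `V`. -/
theorem le_yOf_of_same_image {L X V : Subgroup G} (hVX : V ≤ X)
    (hLn : L ≤ normalizer (V : Set G)) (hXn : X ≤ normalizer (V : Set G))
    (he : Cfsg.IsElementaryAbelian p V)
    (hXL : X ≤ L ⊔ centralizer (V : Set G)) (hLX : L ≤ X ⊔ centralizer (V : Set G))
    (hred : ∀ N : Subgroup G, N ≤ L → L ≤ normalizer (N : Set G) →
      PReduced.pMod p (centralizer (V : Set G)) N → N ≤ centralizer (V : Set G)) :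
    V ≤ Cfsg.largestPReducedOf p X := by
  set C : Subgroup G := centralizer (V : Set G) with hC
  refine le_yOf hVX hXn he fun N hNX hXN hmod => ?_
  have hNC : N ≤ normalizer (C : Set G) := (hNX.trans hXn).trans centralizer_normalized
  have hXNC : X ≤ normalizer ((N ⊔ C : Subgroup G) : Set G) :=
    (le_inf hXN (hXn.trans centralizer_normalized)).trans
      (normalizer_inf_normalizer_le_normalizer_sup _ _)
  have hLNC : L ≤ normalizer ((N ⊔ C : Subgroup G) : Set G) :=
    hLX.trans (sup_le hXNC ((le_sup_right (a := N)).trans Subgroup.le_normalizer))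
  have hmod' : PReduced.pMod p C (L ⊓ (N ⊔ C)) := by
    intro x hx
    obtain ⟨n, hn, c, hc, rfl⟩ := (mem_sup_mul hNC).mp hx.2
    obtain ⟨k, hk⟩ := hmod n hn
    obtain ⟨c', hc', h'⟩ := pow_mul_mem (hNC hn) hc (p ^ k)
    exact ⟨k, h' ▸ C.mul_mem hk hc'⟩
  have hle := hred (L ⊓ (N ⊔ C)) inf_le_left
    ((le_inf Subgroup.le_normalizer hLNC).trans inf_normalizer_le_normalizer_inf) hmod'
  intro n hn
  obtain ⟨l, hl, c, hc, hlc⟩ := (mem_sup_mul (hLn.trans centralizer_normalized)).mp (hXL (hNX hn))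
  have hl' : l ∈ N ⊔ C := by
    rw [show l = n * c⁻¹ by rw [← hlc]; group]
    exact mul_mem (mem_sup_left hn) (mem_sup_right (C.inv_mem hc))
  rw [← hlc]
  exact C.mul_mem (hle ⟨hl, hl'⟩) hc

theorem yOf_le_yOf_of_same_image {L X : Subgroup G} (hX : Cfsg.largestPReducedOf p L ≤ X)
    (hXn : X ≤ normalizer (Cfsg.largestPReducedOf p L : Set G))
    (hXL : X ≤ L ⊔ centralizer (Cfsg.largestPReducedOf p L : Set G))
    (hLX : L ≤ X ⊔ centralizer (Cfsg.largestPReducedOf p L : Set G)) :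
    Cfsg.largestPReducedOf p L ≤ Cfsg.largestPReducedOf p X :=
  le_yOf_of_same_image hX (yOf_normalized L) hXn (yOf_elementary L) hXL hLX
    fun _ h1 h2 h3 => yOf_reduced h1 h2 h3

/-- `Ω₁(Z(T)) ≤ Y_T`. -/
theorem omega_center_le_yOf_self {T : Subgroup G} (hT : IsPGroup p T) :
    Cfsg.omegaOne p (T ⊓ centralizer (T : Set G)) ≤ Cfsg.largestPReducedOf p T := by
  have hle : Cfsg.omegaOne p (T ⊓ centralizer (T : Set G)) ≤ T ⊓ centralizer (T : Set G) :=
    PReduced.omegaOne_le p _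
  refine le_yOf (hle.trans inf_le_left) ?_ (PReduced.omegaOne_isElementaryAbelian (PReduced.center_commute T))
    (fun N hN _ _ => hN.trans ?_)
  · exact (le_centralizer_iff.mp (hle.trans inf_le_right)).trans (centralizer_le_normalizer _)
  · exact le_centralizer_iff.mp (hle.trans inf_le_right)

/-! ### `𝓛` -/

theorem mem_charP_iff {L : Subgroup G} : L ∈ Cfsg.charPSubgroups p G ↔
    Cfsg.pCoreOf p L ≠ ⊥ ∧ centralizer (Cfsg.pCoreOf p L : Set G) ≤ Cfsg.pCoreOf p L :=
  and_congr (not_congr pCoreOf_eq_bot_iff).symm Iff.rfl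

theorem charP_of_le (T : Sylow p G) {L M : Subgroup G} (hM : M ∈ Cfsg.charPSubgroups p G)
    (hTL : (T : Subgroup G) ≤ L) (hLM : L ≤ M) : L ∈ Cfsg.charPSubgroups p G := by
  rw [mem_charP_iff] at hM ⊢
  have h := pCoreOf_le_pCoreOf T hTL hLM
  exact ⟨fun h0 => hM.1 (le_bot_iff.mp (h0 ▸ h)),
    (centralizer_le (SetLike.coe_subset_coe.mpr h)).trans (hM.2.trans h)⟩

/-- In parabolic characteristic `p`, an overgroup of a Sylow subgroup with `O_p ≠ 1` is in `𝓛`. -/
theorem charP_of_parabolic (hG : Cfsg.IsOfParabolicCharacteristic p G) (T : Sylow p G)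
    {X : Subgroup G} (hTX : (T : Subgroup G) ≤ X) (hX : Cfsg.pCoreOf p X ≠ ⊥) :
    X ∈ Cfsg.charPSubgroups p G := by
  set R := Cfsg.pCoreOf p X
  set N := normalizer (R : Set G)
  have hXN : X ≤ N := self_le_normalizer_pCoreOf X
  have hN := hG R (isPGroup_pCoreOf X) hX ⟨T, hTX.trans hXN⟩
  have hRN : R ≤ Cfsg.pCoreOf p N :=
    le_pCoreOf Subgroup.le_normalizer le_rfl (isPGroup_pCoreOf X)
  refine charP_of_le T (mem_charP_iff.mpr ⟨fun h0 => hX (le_bot_iff.mp (h0 ▸ hRN)), ?_⟩) hTX hXN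
  refine le_trans ?_ (centralizer_pCore_iff.mp hN)
  exact le_inf ((centralizer_le (SetLike.coe_subset_coe.mpr hRN)).trans
    (centralizer_le_normalizer _)) le_rfl

theorem yOf_mono (T : Sylow p G) {L M : Subgroup G} (hTL : (T : Subgroup G) ≤ L) (hLM : L ≤ M)
    (hM : M ∈ Cfsg.charPSubgroups p G) :
    Cfsg.largestPReducedOf p L ≤ Cfsg.largestPReducedOf p M := by
  set V := Cfsg.largestPReducedOf p L with hVdef
  set R := Cfsg.pCoreOf p M with hR
  have hRL : R ≤ Cfsg.pCoreOf p L := pCoreOf_le_pCoreOf T hTL hLM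
  have hVR : V ≤ R ⊓ centralizer (R : Set G) := by
    have h1 : V ≤ centralizer (R : Set G) :=
      le_centralizer_iff.mp (hRL.trans (pCoreOf_le_centralizer_yOf L))
    exact le_inf (h1.trans (mem_charP_iff.mp hM).2) h1
  have hVO : V ≤ Cfsg.omegaOne p (R ⊓ centralizer (R : Set G)) := fun v hv =>
    PReduced.mem_omegaOne (hVR hv) ((yOf_elementary L).2 v hv)
  set Z := Cfsg.omegaOne p (R ⊓ centralizer (R : Set G)) with hZ
  set W : Subgroup G := closure {x | ∃ m ∈ M, ∃ v ∈ V, x = m * v * m⁻¹} with hWdef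
  have hZn : M ≤ normalizer (Z : Set G) := by
    refine le_normalizer_iff.mpr fun m hm z hz => ?_
    have hle : Z ≤ Z.comap (MulAut.conj m).toMonoidHom := by
      refine (closure_le _).mpr fun x hx => PReduced.mem_omegaOne ?_ ?_
      · refine mem_inf.mpr ⟨(mem_normalizer_iff.mp (self_le_normalizer_pCoreOf M hm) x).mp hx.1.1, ?_⟩
        exact (mem_normalizer_iff.mp
          (centralizer_normalized (self_le_normalizer_pCoreOf M hm)) x).mp hx.1.2
      · rw [← map_pow, hx.2, map_one]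
    exact hle hz
  have hWZ : W ≤ Z := (closure_le _).mpr (by
    rintro x ⟨m, hm, v, hv, rfl⟩
    exact (mem_normalizer_iff.mp (hZn hm) v).mp (hVO hv))
  have hWe : Cfsg.IsElementaryAbelian p W := PReduced.isElementaryAbelian_mono
    (PReduced.omegaOne_isElementaryAbelian (PReduced.center_commute R)) hWZ
  have hWM : W ≤ M := hWZ.trans ((PReduced.omegaOne_le p _).trans (inf_le_left.trans (pCoreOf_le M)))
  have hVW : V ≤ W := fun v hv => subset_closure ⟨1, M.one_mem, v, hv, by simp⟩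
  have hWn : M ≤ normalizer (W : Set G) := by
    refine le_normalizer_iff.mpr fun g hg z hz => ?_
    have hle : W ≤ W.comap (MulAut.conj g).toMonoidHom := by
      refine (closure_le _).mpr ?_
      rintro x ⟨m, hm, v, hv, rfl⟩
      exact subset_closure ⟨g * m, M.mul_mem hg hm, v, hv, by simp [mul_assoc]⟩
    exact hle hz
  refine hVW.trans (le_yOf hWM hWn hWe fun N hNM hMN hmod => ?_)
  set C : Subgroup G := centralizer (W : Set G) with hC
  have hCV : C ≤ centralizer (V : Set G) := centralizer_le (SetLike.coe_subset_coe.mpr hVW)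
  set K : Subgroup G := N ⊔ (M ⊓ C) with hK
  have hKM : K ≤ M := sup_le hNM inf_le_left
  haveI hCn : ((M ⊓ C).subgroupOf M).Normal :=
    Cores.subgroupOf_normal_of_le_normalizer (le_normalizer_inf_centralizer hWn)
  haveI hKn : (K.subgroupOf M).Normal := Cores.subgroupOf_normal_of_le_normalizer
    ((le_inf hMN (le_normalizer_inf_centralizer hWn)).trans
      (normalizer_inf_normalizer_le_normalizer_sup _ _))
  have hKmod : PReduced.pMod p (M ⊓ C) K := by
    intro x hx
    obtain ⟨n, hn, c, hc, rfl⟩ := (mem_sup_mul (hNM.trans (le_normalizer_inf_centralizer hWn))).mp hx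
    obtain ⟨k, hk⟩ := hmod n hn
    obtain ⟨c', hc', h'⟩ := pow_mul_mem (le_normalizer_inf_centralizer hWn (hNM hn)) hc (p ^ k)
    exact ⟨k, h' ▸ mul_mem (mem_inf.mpr ⟨M.pow_mem (hNM hn) _, hk⟩) hc'⟩
  set TM : Sylow p M := T.subtype (hTL.trans hLM) with hTM
  have hKeq := PReduced.eq_sup_sylow_inf_of_pMod TM
    (C := (M ⊓ C).subgroupOf M) (N := K.subgroupOf M) (fun x hx => (le_sup_right (a := N)) hx)
    ((pMod_subgroupOf_iff hKM).mpr hKmod)
  have hTKV : ∀ t ∈ (T : Subgroup G), t ∈ K → t ∈ centralizer (V : Set G) := by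
    have hLK : L ⊓ K ≤ centralizer (V : Set G) := by
      refine yOf_reduced inf_le_left ?_ ((hKmod.mono (inf_le_right.trans hCV) inf_le_right))
      exact (le_inf Subgroup.le_normalizer (hLM.trans
        ((normal_subgroupOf_iff_le_normalizer hKM).mp hKn))).trans inf_normalizer_le_normalizer_inf
    exact fun t ht htK => hLK ⟨hTL ht, htK⟩
  -- the trace of `T` on `K` centralizes all conjugates of `V`
  have hTKW : ∀ t ∈ (T : Subgroup G), t ∈ K → t ∈ C := by
    intro t ht htK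
    rw [hC, mem_centralizer_iff]
    intro w hw
    have hle : W ≤ centralizer ({t} : Set G) := by
      refine (closure_le _).mpr ?_
      rintro x ⟨m, hm, v, hv, rfl⟩
      obtain ⟨a, ha, c, hc, hac⟩ := PReduced.frattini_sylow_inf_mul TM (K.subgroupOf M) ⟨m, hm⟩
      have hmac : m = (a : G) * (c : G) := congrArg Subtype.val hac
      have hc' : (c : G) ∈ ((TM : Subgroup M) ⊓ K.subgroupOf M).map M.subtype ⊔ C := by
        have h1 : c ∈ (M ⊓ C).subgroupOf M ⊔ ((TM : Subgroup M) ⊓ K.subgroupOf M) := hKeq ▸ hc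
        have h2 := mem_map_of_mem M.subtype h1
        rw [Subgroup.map_sup] at h2
        refine SetLike.le_def.mp (sup_le ?_ le_sup_left) h2
        rintro _ ⟨z, hz, rfl⟩
        exact mem_sup_right hz.2
      have hcv : (c : G) * v = v * (c : G) := by
        refine (mem_centralizer_iff.mp ((sup_le ?_ hCV) hc') v hv).symm
        rintro _ ⟨y, hy, rfl⟩
        exact hTKV _ hy.1 hy.2
      rw [SetLike.mem_coe, mem_centralizer_singleton_iff, hmac]
      have ht' : (a : G)⁻¹ * t * (a : G) ∈ centralizer (V : Set G) := by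
        have h1 := (mem_normalizer_iff''.mp ha ⟨t, (hTL.trans hLM) ht⟩).mp ⟨ht, htK⟩
        exact hTKV _ h1.1 h1.2
      have e : v * ((a : G)⁻¹ * t * (a : G)) = ((a : G)⁻¹ * t * (a : G)) * v :=
        mem_centralizer_iff.mp ht' v hv
      calc (a : G) * c * v * ((a : G) * c)⁻¹ * t = (a : G) * (c * v) * (c : G)⁻¹ * (a : G)⁻¹ * t := by
            group
        _ = (a : G) * (v * ((a : G)⁻¹ * t * (a : G))) * (a : G)⁻¹ := by rw [hcv]; group
        _ = (a : G) * (((a : G)⁻¹ * t * (a : G)) * v) * (a : G)⁻¹ := by rw [e]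
        _ = t * ((a : G) * v * (a : G)⁻¹) := by group
        _ = t * ((a : G) * (v * c) * (c : G)⁻¹ * (a : G)⁻¹) := by group
        _ = _ := by rw [← hcv]; group
    exact mem_centralizer_singleton_iff.mp (hle hw)
  intro n hn
  have h1 : (⟨n, hNM hn⟩ : M) ∈ (M ⊓ C).subgroupOf M ⊔ ((TM : Subgroup M) ⊓ K.subgroupOf M) :=
    hKeq ▸ (show (⟨n, hNM hn⟩ : M) ∈ K.subgroupOf M from mem_sup_left hn)
  have h2 : (M ⊓ C).subgroupOf M ⊔ ((TM : Subgroup M) ⊓ K.subgroupOf M) ≤ C.subgroupOf M :=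
    sup_le (fun x hx => hx.2) (fun x hx => hTKW _ hx.1 hx.2)
  exact h2 h1

/-- `Ω₁(Z(T)) ≤ Y_L` for `T ≤ L ∈ 𝓛`. -/
theorem omega_center_le_yOf (T : Sylow p G) {L : Subgroup G} (hTL : (T : Subgroup G) ≤ L)
    (hL : L ∈ Cfsg.charPSubgroups p G) :
    Cfsg.omegaOne p ((T : Subgroup G) ⊓ centralizer ((T : Subgroup G) : Set G)) ≤
      Cfsg.largestPReducedOf p L :=
  (omega_center_le_yOf_self T.isPGroup').trans (yOf_mono T le_rfl hTL hL)

/-- A nontrivial element of order `p` in the centre of a nontrivial `p`-subgroup. -/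
theorem exists_omega_center {T : Subgroup G} (hT : IsPGroup p T) (h1 : T ≠ ⊥) :
    ∃ z ∈ Cfsg.omegaOne p (T ⊓ centralizer (T : Set G)), z ≠ 1 := by
  haveI : Nontrivial T := (Subgroup.nontrivial_iff_ne_bot T).mpr h1
  haveI := hT.center_nontrivial
  obtain ⟨n, hn, hc⟩ := (hT.to_subgroup (center T)).nontrivial_iff_card.mp ‹_›
  obtain ⟨z, hz⟩ := exists_prime_orderOf_dvd_card' (G := center T) p (hc ▸ dvd_pow_self p hn.ne')
  have hz' : orderOf ((z : T) : G) = p := by
    rw [Subgroup.orderOf_coe, Subgroup.orderOf_coe]; exact hz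
  refine ⟨(z : T), PReduced.mem_omegaOne_center.mpr ⟨(z : T).2,
    fun t ht => congrArg Subtype.val (mem_center_iff.mp z.2 ⟨t, ht⟩), ?_⟩, fun h => ?_⟩
  · have e := pow_orderOf_eq_one ((z : T) : G)
    rwa [hz'] at e
  · rw [h, orderOf_one] at hz'
    exact (Fact.out : p.Prime).ne_one hz'.symm

theorem sylow_ne_bot_of_charP (T : Sylow p G) {L : Subgroup G} (hTL : (T : Subgroup G) ≤ L)
    (hL : L ∈ Cfsg.charPSubgroups p G) : (T : Subgroup G) ≠ ⊥ := fun h =>
  (mem_charP_iff.mp hL).1 (le_bot_iff.mp (h ▸ pCoreOf_le_sylow T hTL))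

theorem exists_mem_yOf_center (T : Sylow p G) {L : Subgroup G} (hTL : (T : Subgroup G) ≤ L)
    (hL : L ∈ Cfsg.charPSubgroups p G) :
    ∃ z ∈ Cfsg.largestPReducedOf p L, z ≠ 1 ∧ ∀ t ∈ (T : Subgroup G), t * z = z * t := by
  obtain ⟨z, hz, hz1⟩ := exists_omega_center T.isPGroup' (sylow_ne_bot_of_charP T hTL hL)
  exact ⟨z, omega_center_le_yOf T hTL hL hz, hz1, (PReduced.mem_omegaOne_center.mp hz).2.1⟩

theorem yOf_ne_bot (T : Sylow p G) {L : Subgroup G} (hTL : (T : Subgroup G) ≤ L)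
    (hL : L ∈ Cfsg.charPSubgroups p G) : Cfsg.largestPReducedOf p L ≠ ⊥ := by
  obtain ⟨z, hz, hz1, -⟩ := exists_mem_yOf_center T hTL hL
  exact fun h => hz1 (by simpa [h] using hz)

/-! ### `𝔐` -/

theorem dag_le_normalizer (M : Subgroup G) :
    M ⊔ centralizer (Cfsg.largestPReducedOf p M : Set G) ≤
      normalizer (Cfsg.largestPReducedOf p M : Set G) :=
  sup_le (yOf_normalized M) (centralizer_le_normalizer _)

/-- `O_p(M) = S ∩ C(Y_M)`. -/
theorem pCoreOf_eq_inf (S : Sylow p G) {M : Subgroup G} (hSM : (S : Subgroup G) ≤ M)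
    (hM : Cfsg.IsInFrakM p M) : Cfsg.pCoreOf p M =
      (S : Subgroup G) ⊓ centralizer (Cfsg.largestPReducedOf p M : Set G) := by
  refine le_antisymm (le_inf (pCoreOf_le_sylow S hSM) (pCoreOf_le_centralizer_yOf M)) ?_
  set D := M ⊓ centralizer (Cfsg.largestPReducedOf p M : Set G) with hD
  have hle : (S : Subgroup G) ⊓ centralizer (Cfsg.largestPReducedOf p M : Set G) ≤ D :=
    inf_le_inf_right _ hSM
  have hp := (S.isPGroup'.to_le (inf_le_left (b := centralizer (Cfsg.largestPReducedOf p M : Set G))))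
  obtain ⟨P, hP⟩ := (hp.of_equiv (subgroupOfEquivOfLe hle).symm).exists_le_sylow
  haveI : (P : Subgroup D).Normal := hM.2.2.2.2.1 P
  have hcore : Cfsg.pCoreOf p D ≤ Cfsg.pCoreOf p M :=
    le_pCoreOf ((pCoreOf_le D).trans inf_le_left)
      ((le_normalizer_inf_centralizer (yOf_normalized M)).trans (le_normalizer_pCoreOf D))
      (isPGroup_pCoreOf D)
  intro x hx
  exact hcore ⟨⟨x, hle hx⟩, (Cores.pCore_eq_sylow P).symm ▸ hP (mem_subgroupOf.mpr hx), rfl⟩

theorem exists_max_charP {L : Subgroup G} (hL : L ∈ Cfsg.charPSubgroups p G) :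
    ∃ X ∈ Cfsg.maxCharPSubgroups p G, L ≤ X := by
  haveI : Finite (Subgroup G) := inferInstance
  obtain ⟨X, ⟨hX, hLX⟩, hmax⟩ := Set.exists_max_image
    {X : Subgroup G | X ∈ Cfsg.charPSubgroups p G ∧ L ≤ X} (fun X => Nat.card X)
    (Set.toFinite _) ⟨L, hL, le_rfl⟩
  exact ⟨X, ⟨hX, fun X' hX' hle => (eq_of_le_of_card_ge hle (hmax X' ⟨hX', hLX.trans hle⟩)).symm⟩, hLX⟩

/-- Every member of `𝓛` containing `M` lies in `M†`. -/
theorem le_dag_of_charP {M X : Subgroup G} (hM : Cfsg.IsInFrakM p M)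
    (hX : X ∈ Cfsg.charPSubgroups p G) (hMX : M ≤ X) :
    X ≤ M ⊔ centralizer (Cfsg.largestPReducedOf p M : Set G) := by
  obtain ⟨X', hX', hle⟩ := exists_max_charP hX
  exact hM.2.2.1 X' hX' (hMX.trans hle) ▸ hle

end Cfsg.Agent.LargeSub
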