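import Cfsg.Agent.Lib.LargeSub.Basic
import Cfsg.Agent.Lib.Coprime.Basic

/-!
# Asymmetric `Y_M`

For `M ∈ 𝔐` above a Sylow subgroup in parabolic characteristic `p`, with `Y_M` asymmetric
(namespace `Cfsg.Agent.LargeSub.Hyp`), writing `R = O_p(M)`, `C = C(Y_M)`, `M† = M C`:
* `inf_centralizer_eq`: `L ∩ C = R` for every `p`-subgroup `L ≥ R`;
* `le_normalizer`, `normalizer_le`: every `p`-subgroup `L ≥ R` and its normalizer normalize `R`;
* `mem_normalizer_of_conj_le`: `R` is weakly closed;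
* `isParabolic_inf_dag`, `exists_fusion`;
* `mem_centralizer_of_normalizing`: two conjugates of `Y_M` normalizing each other commute.
-/

set_option autoImplicit false

namespace Cfsg.Agent.LargeSub

open Subgroup
open scoped Pointwise

variable {G : Type*} [Group G] [Finite G] {p : ℕ} [Fact p.Prime]

/-- The standing hypotheses of the asymmetric case. -/
structure Hyp (p : ℕ) (S : Sylow p G) (M : Subgroup G) : Prop where
  sylow_le : (S : Subgroup G) ≤ M
  frakM : Cfsg.IsInFrakM p M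
  parChar : Cfsg.IsOfParabolicCharacteristic p G
  asym : ¬ Cfsg.IsSymmetricIn (Cfsg.largestPReducedOf p M)

theorem hyp_of_large {Q : Subgroup G} (hQp : IsPGroup p Q) (hQ1 : Q ≠ ⊥) (hQ : Cfsg.IsLarge Q)
    {S : Sylow p G} {M : Subgroup G} (hSM : (S : Subgroup G) ≤ M) (hM : Cfsg.IsInFrakM p M)
    (hasym : ¬ Cfsg.IsSymmetricIn (Cfsg.largestPReducedOf p M)) : Hyp p S M :=
  ⟨hSM, hM, isOfParabolicCharacteristic hQp hQ hQ1, hasym⟩

namespace Hyp

variable {S : Sylow p G} {M : Subgroup G}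

theorem yOf_ne_bot (h : Hyp p S M) : Cfsg.largestPReducedOf p M ≠ ⊥ :=
  LargeSub.yOf_ne_bot S h.sylow_le h.frakM.1

theorem centralizer_pCoreOf_le (h : Hyp p S M) :
    centralizer (Cfsg.pCoreOf p M : Set G) ≤ Cfsg.pCoreOf p M := (mem_charP_iff.mp h.frakM.1).2

theorem sylow_le_normalizer (h : Hyp p S M) :
    (S : Subgroup G) ≤ normalizer (Cfsg.pCoreOf p M : Set G) :=
  h.sylow_le.trans (self_le_normalizer_pCoreOf M)

/-- An overgroup of `M` with a nontrivial normal `p`-subgroup lies in `M†`. -/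
theorem normalizer_le_dag (h : Hyp p S M) {K : Subgroup G} (hK : IsPGroup p K) (h1 : K ≠ ⊥)
    (hM : M ≤ normalizer (K : Set G)) :
    normalizer (K : Set G) ≤ M ⊔ centralizer (Cfsg.largestPReducedOf p M : Set G) := by
  refine le_dag_of_charP h.frakM (charP_of_parabolic h.parChar S (h.sylow_le.trans hM) ?_) hM
  exact fun h0 => h1 (le_bot_iff.mp
    (h0 ▸ le_pCoreOf Subgroup.le_normalizer le_rfl hK))

theorem normalizer_yOf (h : Hyp p S M) :
    normalizer (Cfsg.largestPReducedOf p M : Set G) =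
      M ⊔ centralizer (Cfsg.largestPReducedOf p M : Set G) :=
  le_antisymm (h.normalizer_le_dag (yOf_isPGroup M) h.yOf_ne_bot (yOf_normalized M))
    (dag_le_normalizer M)

theorem normalizer_pCoreOf_le (h : Hyp p S M) :
    normalizer (Cfsg.pCoreOf p M : Set G) ≤ normalizer (Cfsg.largestPReducedOf p M : Set G) :=
  (h.normalizer_le_dag (isPGroup_pCoreOf M) (mem_charP_iff.mp h.frakM.1).1
    (self_le_normalizer_pCoreOf M)).trans (dag_le_normalizer M)

/-- `L ∩ C(Y_M) = O_p(M)` for a `p`-subgroup `L ≥ O_p(M)`. -/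
theorem inf_centralizer_eq (h : Hyp p S M) {L : Subgroup G} (hL : IsPGroup p L)
    (hRL : Cfsg.pCoreOf p M ≤ L) :
    L ⊓ centralizer (Cfsg.largestPReducedOf p M : Set G) = Cfsg.pCoreOf p M := by
  set C := centralizer (Cfsg.largestPReducedOf p M : Set G) with hC
  set D := M ⊔ C with hD
  have hPD : L ⊓ C ≤ D := inf_le_right.trans le_sup_right
  obtain ⟨T, hT⟩ := ((hL.to_le (inf_le_left (b := C))).of_equiv
    (subgroupOfEquivOfLe hPD).symm).exists_le_sylow
  obtain ⟨d, hd⟩ := MulAction.exists_smul_eq D T (S.subtype (h.sylow_le.trans le_sup_left))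
  have hDC : D ≤ normalizer (C : Set G) := (dag_le_normalizer M).trans centralizer_normalized
  have hmap : (L ⊓ C).map (MulAut.conj (d : G)).toMonoidHom ≤ Cfsg.pCoreOf p M := by
    rintro _ ⟨x, hx, rfl⟩
    rw [pCoreOf_eq_inf S h.sylow_le h.frakM]
    refine mem_inf.mpr ⟨?_, (mem_normalizer_iff.mp (hDC d.2) x).mp hx.2⟩
    have h1 := smul_mem_pointwise_smul _ (MulAut.conj d) _ (hT (mem_subgroupOf.mpr hx : (⟨x, hPD hx⟩ : D) ∈ _))
    have h2 : MulAut.conj d • (⟨x, hPD hx⟩ : D) ∈ ((d • T : Sylow p D) : Subgroup D) := h1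
    rw [hd] at h2
    exact h2
  refine (eq_of_le_of_card_ge (le_inf hRL (pCoreOf_le_centralizer_yOf M)) ?_).symm
  have hcard := card_le_of_le hmap
  rwa [card_map_of_injective (MulAut.conj (d : G)).injective] at hcard

/-- Asymmetry: if `Y` and `gYg⁻¹` normalize each other, they commute. -/
theorem mem_centralizer_of_normalizing (h : Hyp p S M) {g : G}
    (h1 : ∀ y ∈ Cfsg.largestPReducedOf p M,
      g * y * g⁻¹ ∈ normalizer (Cfsg.largestPReducedOf p M : Set G))
    (h2 : ∀ y ∈ Cfsg.largestPReducedOf p M,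
      g⁻¹ * y * g ∈ normalizer (Cfsg.largestPReducedOf p M : Set G))
    {y : G} (hy : y ∈ Cfsg.largestPReducedOf p M) :
    g * y * g⁻¹ ∈ centralizer (Cfsg.largestPReducedOf p M : Set G) := by
  set Y := Cfsg.largestPReducedOf p M with hY
  set Yg := Y.map (MulAut.conj g).toMonoidHom with hYg
  have hgY : Yg ≤ normalizer (Y : Set G) := by
    rintro _ ⟨v, hv, rfl⟩
    exact h1 v hv
  have hYn : Y ≤ normalizer (Yg : Set G) := fun v hv => by
    rw [hYg, ← map_normalizer_eq_of_bijective _ (MulAut.conj g).bijective]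
    exact ⟨_, h2 v hv, by simp [mul_assoc]⟩
  have hle : ⁅Y, Yg⁆ ≤ Y ⊓ Yg :=
    le_inf (le_normalizer_iff_commutator_le_left.mp hgY)
      (by rw [commutator_comm]; exact le_normalizer_iff_commutator_le_left.mp hYn)
  have h0 : ⁅Y, Yg⁆ = ⊥ := by
    by_contra hne
    exact h.asym ⟨g, hne, hle⟩
  rw [commutator_comm, commutator_eq_bot_iff_le_centralizer] at h0
  exact h0 ⟨y, hy, rfl⟩

/-- The basic case: a `p`-subgroup `L ≥ R` normalizing `R`. -/
theorem normalizer_le_of_le_normalizer (h : Hyp p S M) {L : Subgroup G} (hL : IsPGroup p L)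
    (hRL : Cfsg.pCoreOf p M ≤ L) (hLR : L ≤ normalizer (Cfsg.pCoreOf p M : Set G)) :
    normalizer (L : Set G) ≤ normalizer (Cfsg.pCoreOf p M : Set G) := by
  set Y := Cfsg.largestPReducedOf p M with hY
  set R := Cfsg.pCoreOf p M with hR
  let W : Set G := {x | x ∈ M ∨ x ∈ normalizer (L : Set G)}
  have hLY : L ≤ normalizer (Y : Set G) := hLR.trans h.normalizer_pCoreOf_le
  have hWinv : ∀ t ∈ W, t⁻¹ ∈ W := fun t ht => ht.imp M.inv_mem (inv_mem (s := normalizer (L : Set G)) ·)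
  -- every `W`-word moves `Y` into `R`
  have key : ∀ n : ℕ, ∀ l : List G, l.length ≤ n → (∀ t ∈ l, t ∈ W) →
      ∀ y ∈ Y, l.prod * y * l.prod⁻¹ ∈ R := by
    intro n
    induction n with
    | zero =>
      intro l hl _ y hy
      rw [List.length_eq_zero_iff.mp (Nat.le_zero.mp hl)]
      simpa using yOf_le_pCoreOf M hy
    | succ n ih =>
      have hin : ∀ l : List G, l.length ≤ n + 1 → (∀ t ∈ l, t ∈ W) →
          ∀ y ∈ Y, l.prod * y * l.prod⁻¹ ∈ L := by
        intro l hl hlW y hy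
        match l, hl, hlW with
        | [], _, _ => simpa using hRL (yOf_le_pCoreOf M hy)
        | t :: l', hl, hlW =>
          have hw := ih l' (by simpa using hl) (fun s hs => hlW s (List.mem_cons_of_mem t hs)) y hy
          have he : (t :: l').prod * y * (t :: l').prod⁻¹ = t * (l'.prod * y * l'.prod⁻¹) * t⁻¹ := by
            simp [mul_assoc]
          rw [he]
          rcases hlW t List.mem_cons_self with ht | ht
          · exact hRL ((mem_normalizer_iff.mp (self_le_normalizer_pCoreOf M ht) _).mp hw)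
          · exact (mem_normalizer_iff.mp ht _).mp (hRL hw)
      intro l hl hlW y hy
      refine (h.inf_centralizer_eq hL hRL).le (mem_inf.mpr ⟨hin l hl hlW y hy, ?_⟩)
      refine h.mem_centralizer_of_normalizing (fun v hv => hLY (hin l hl hlW v hv)) (fun v hv => ?_) hy
      have h1 := hin ((l.map fun x => x⁻¹).reverse) (by simpa using hl) (fun t ht => by
        simp only [List.mem_reverse, List.mem_map] at ht
        obtain ⟨s, hs, rfl⟩ := ht
        exact hWinv s (hlW s hs)) v hv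
      rw [← List.prod_inv_reverse, inv_inv] at h1
      exact hLY h1
  set K := closure {x : G | ∃ l : List G, (∀ t ∈ l, t ∈ W) ∧ ∃ y ∈ Y, x = l.prod * y * l.prod⁻¹}
  have hKR : K ≤ R := (closure_le _).mpr (by
    rintro x ⟨l, hl, y, hy, rfl⟩
    exact key _ l le_rfl hl y hy)
  have hWK : ∀ t ∈ W, t ∈ normalizer (K : Set G) := by
    intro t ht
    refine Coprime.mem_normalizer_of_forall fun x hx => ?_
    have hle : K ≤ K.comap (MulAut.conj t).toMonoidHom := (closure_le _).mpr (by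
      rintro z ⟨l, hl, y, hy, rfl⟩
      exact subset_closure ⟨t :: l, List.forall_mem_cons.mpr ⟨ht, hl⟩, y, hy, by simp [mul_assoc]⟩)
    exact hle hx
  have hYK : Y ≤ K := fun y hy => subset_closure ⟨[], by simp, y, hy, by simp⟩
  have hND := h.normalizer_le_dag ((isPGroup_pCoreOf M).to_le hKR)
    (fun h0 => h.yOf_ne_bot (le_bot_iff.mp (h0 ▸ hYK))) (fun m hm => hWK m (Or.inl hm))
  intro g hg
  have hgY : g ∈ normalizer (Y : Set G) := dag_le_normalizer M (hND (hWK g (Or.inr hg)))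
  refine Coprime.mem_normalizer_of_forall fun x hx => ?_
  exact (h.inf_centralizer_eq hL hRL).le (mem_inf.mpr ⟨(mem_normalizer_iff.mp hg x).mp (hRL hx),
    (mem_normalizer_iff.mp (centralizer_normalized hgY) x).mp (pCoreOf_le_centralizer_yOf M hx)⟩)

/-- Every `p`-subgroup containing `R` normalizes it. -/
theorem le_normalizer (h : Hyp p S M) {L : Subgroup G} (hL : IsPGroup p L)
    (hRL : Cfsg.pCoreOf p M ≤ L) : L ≤ normalizer (Cfsg.pCoreOf p M : Set G) := by
  set L₀ := L ⊓ normalizer (Cfsg.pCoreOf p M : Set G) with hL₀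
  have hN := h.normalizer_le_of_le_normalizer (hL.to_le (inf_le_left)) (L := L₀)
    (le_inf hRL Subgroup.le_normalizer) inf_le_right
  haveI := hL.isNilpotent
  by_contra hne
  have hlt : L₀.subgroupOf L < ⊤ := by
    rw [lt_top_iff_ne_top, Ne, subgroupOf_eq_top]
    exact fun h' => hne (h'.trans inf_le_right)
  obtain ⟨n, hn, hn0⟩ := SetLike.exists_of_lt (Group.normalizerCondition_of_isNilpotent _ hlt)
  refine hn0 (mem_subgroupOf.mpr (mem_inf.mpr ⟨n.2, hN ?_⟩))
  refine Coprime.mem_normalizer_of_forall fun x hx => ?_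
  exact mem_subgroupOf.mp ((mem_normalizer_iff.mp hn ⟨x, hx.1⟩).mp (mem_subgroupOf.mpr hx))

theorem normalizer_le (h : Hyp p S M) {L : Subgroup G} (hL : IsPGroup p L)
    (hRL : Cfsg.pCoreOf p M ≤ L) :
    normalizer (L : Set G) ≤ normalizer (Cfsg.pCoreOf p M : Set G) :=
  h.normalizer_le_of_le_normalizer hL hRL (h.le_normalizer hL hRL)

/-- `R` is weakly closed. -/
theorem mem_normalizer_of_conj_le (h : Hyp p S M) {P : Subgroup G} (hP : IsPGroup p P)
    (hRP : Cfsg.pCoreOf p M ≤ P) {g : G} (hg : ∀ x ∈ Cfsg.pCoreOf p M, g * x * g⁻¹ ∈ P) :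
    g ∈ normalizer (Cfsg.pCoreOf p M : Set G) := by
  obtain ⟨T, hT⟩ := hP.exists_le_sylow
  set N := normalizer (Cfsg.pCoreOf p M : Set G)
  have hTN : (T : Subgroup G) ≤ N := h.le_normalizer T.isPGroup' (hRP.trans hT)
  have hRT' : Cfsg.pCoreOf p M ≤ ((g⁻¹ • T : Sylow p G) : Subgroup G) := by
    intro x hx
    have h2 := smul_mem_pointwise_smul _ (MulAut.conj g⁻¹) _ (hT (hg x hx))
    have h3 : MulAut.conj g⁻¹ • (g * x * g⁻¹) = x := by simp [mul_assoc]
    rw [h3] at h2
    exact h2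
  have hT'N := h.le_normalizer (g⁻¹ • T).isPGroup' hRT'
  obtain ⟨n, hn⟩ := MulAction.exists_smul_eq N (T.subtype hTN) ((g⁻¹ • T).subtype hT'N)
  rw [Sylow.smul_subtype] at hn
  have hn' : (n : G) • T = g⁻¹ • T := Sylow.subtype_injective hn
  have h1 : g * (n : G) ∈ normalizer ((T : Subgroup G) : Set G) :=
    Sylow.smul_eq_iff_mem_normalizer.mp (by rw [mul_smul, hn', smul_inv_smul])
  simpa using mul_mem (h.normalizer_le T.isPGroup' (hRP.trans hT) h1) (inv_mem n.2)

/-- A subgroup containing `R` meets `M†` in a parabolic subgroup. -/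
theorem isParabolic_inf_dag (h : Hyp p S M) {L : Subgroup G} (hRL : Cfsg.pCoreOf p M ≤ L) :
    Cfsg.IsParabolic p ((L ⊓ (M ⊔ centralizer (Cfsg.largestPReducedOf p M : Set G))).subgroupOf L) := by
  obtain ⟨T, hT⟩ := ((isPGroup_pCoreOf M).of_equiv (subgroupOfEquivOfLe hRL).symm).exists_le_sylow
  refine ⟨T, fun x hx => mem_subgroupOf.mpr (mem_inf.mpr ⟨x.2, h.normalizer_yOf.le ?_⟩)⟩
  refine h.normalizer_pCoreOf_le (h.le_normalizer (T.isPGroup'.map L.subtype) ?_ ⟨x, hx, rfl⟩)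
  exact fun r hr => ⟨⟨r, hRL hr⟩, hT (mem_subgroupOf.mpr hr), rfl⟩

/-- Two elements of `Y` conjugate in `G` are conjugate in `M`. -/
theorem exists_fusion (h : Hyp p S M) {x g : G} (hx : x ∈ Cfsg.largestPReducedOf p M)
    (hgx : g * x * g⁻¹ ∈ Cfsg.largestPReducedOf p M) :
    ∃ m ∈ M, m * x * m⁻¹ = g * x * g⁻¹ := by
  set R := Cfsg.pCoreOf p M with hR
  set C := centralizer (Cfsg.largestPReducedOf p M : Set G) with hC
  set y := g * x * g⁻¹ with hy
  set Cy := centralizer ({y} : Set G) with hCy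
  have hRC : R ≤ C := pCoreOf_le_centralizer_yOf M
  have hR1 : R ≤ Cy := fun r hr => mem_centralizer_singleton_iff.mpr
    (mem_centralizer_iff.mp (hRC hr) y hgx).symm
  set R' := R.map (MulAut.conj g).toMonoidHom with hR'
  have hR2 : R' ≤ Cy := by
    rintro _ ⟨r, hr, rfl⟩
    refine mem_centralizer_singleton_iff.mpr ?_
    have e : x * r = r * x := mem_centralizer_iff.mp (hRC hr) x hx
    calc g * r * g⁻¹ * y = g * (r * x) * g⁻¹ := by rw [hy]; group
      _ = g * (x * r) * g⁻¹ := by rw [e]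
      _ = y * (g * r * g⁻¹) := by rw [hy]; group
  obtain ⟨P, hP⟩ := ((isPGroup_pCoreOf M).of_equiv (subgroupOfEquivOfLe hR1).symm).exists_le_sylow
  obtain ⟨P', hP'⟩ := (((isPGroup_pCoreOf M).map _).of_equiv
    (subgroupOfEquivOfLe hR2).symm).exists_le_sylow
  obtain ⟨c, hc⟩ := MulAction.exists_smul_eq Cy P' P
  have hcg : (c : G) * g ∈ normalizer (R : Set G) := by
    refine h.mem_normalizer_of_conj_le (P.isPGroup'.map Cy.subtype)
      (fun r hr => ⟨⟨r, hR1 hr⟩, hP (mem_subgroupOf.mpr hr), rfl⟩) fun r hr => ?_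
    have h1 := smul_mem_pointwise_smul _ (MulAut.conj c) _
      (hP' (mem_subgroupOf.mpr ⟨r, hr, rfl⟩ : (⟨g * r * g⁻¹, hR2 ⟨r, hr, rfl⟩⟩ : Cy) ∈ R'.subgroupOf Cy))
    have h2 : MulAut.conj c • (⟨g * r * g⁻¹, hR2 ⟨r, hr, rfl⟩⟩ : Cy) ∈
      ((c • P' : Sylow p Cy) : Subgroup Cy) := h1
    rw [hc] at h2
    exact ⟨_, h2, by simp [mul_assoc]⟩
  have hMC : M ≤ normalizer (C : Set G) := (yOf_normalized M).trans centralizer_normalized
  obtain ⟨m, hm, c₀, hc₀, he⟩ :=
    (mem_sup_mul hMC).mp (h.normalizer_yOf.le (h.normalizer_pCoreOf_le hcg))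
  refine ⟨m, hm, ?_⟩
  have e0 : x * c₀ = c₀ * x := mem_centralizer_iff.mp hc₀ x hx
  have e1 : y * (c : G) = (c : G) * y := (mem_centralizer_singleton_iff.mp c.2).symm
  calc m * x * m⁻¹ = m * (x * c₀) * c₀⁻¹ * m⁻¹ := by group
    _ = (m * c₀) * x * (m * c₀)⁻¹ := by rw [e0]; group
    _ = (c : G) * y * (c : G)⁻¹ := by rw [he, hy]; group
    _ = y := by rw [← e1]; group

end Hyp

end Cfsg.Agent.LargeSub
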