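import Cfsg.Agent.Lib.LargeSub.PReducedOf
import Cfsg.Agent.Lib.CharP.Basic
import Cfsg.Agent.Lib.PGroup.Basic

/-!
# Large subgroups

* `normalizer_le`: `N(P) ≤ N(Q)` for `p`-subgroups `P ≥ Q`; `weaklyClosed`: conjugates of `Q` in a common
  `p`-group are equal; `inf_centralizer_conj`: disjoint centralizers.
* `isPGroup_centralizer_pCoreOf`, `charP_of_parabolic'`, `isOfParabolicCharacteristic`.
* `mem_normalizer_of_mem_centralizer_center`, `weakClosure_eq`.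
-/

set_option autoImplicit false

namespace Cfsg.Agent.LargeSub

open Subgroup
open scoped Pointwise

variable {G : Type*} [Group G] {p : ℕ}

theorem le_normalizer_of_large {Q U : Subgroup G} (hQ : Cfsg.IsLarge Q)
    (hU : U ≤ centralizer (Q : Set G)) (h1 : U ≠ ⊥) :
    normalizer (U : Set G) ≤ normalizer (Q : Set G) := hQ.2 U hU h1

theorem centralizer_singleton_le {Q : Subgroup G} (hQ : Cfsg.IsLarge Q) {z : G} (hz : z ≠ 1)
    (hzQ : z ∈ centralizer (Q : Set G)) : centralizer ({z} : Set G) ≤ normalizer (Q : Set G) := by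
  refine le_trans ?_ (hQ.2 (zpowers z) (zpowers_le.mpr hzQ) (by rwa [Ne, zpowers_eq_bot]))
  rw [← Subgroup.centralizer_closure, ← zpowers_eq_closure]
  exact centralizer_le_normalizer _

variable [Finite G] [Fact p.Prime]

/-- A nontrivial element in the centre of a nontrivial `p`-group. -/
theorem exists_center_ne_one {P : Subgroup G} (hP : IsPGroup p P) (h1 : P ≠ ⊥) :
    ∃ z ∈ P, z ≠ 1 ∧ ∀ t ∈ P, t * z = z * t := by
  obtain ⟨z, hz, hz1⟩ := exists_omega_center hP h1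
  exact ⟨z, (PReduced.mem_omegaOne_center.mp hz).1, hz1, (PReduced.mem_omegaOne_center.mp hz).2.1⟩

/-- `N(P) ≤ N(Q)` for every `p`-group `P ≥ Q`. -/
theorem normalizer_le {Q P : Subgroup G} (hQ : Cfsg.IsLarge Q) (hQ1 : Q ≠ ⊥) (hP : IsPGroup p P)
    (hQP : Q ≤ P) : normalizer (P : Set G) ≤ normalizer (Q : Set G) := by
  set Z : Subgroup G := (center P).map P.subtype with hZ
  obtain ⟨z, hzP, hz1, hz⟩ := exists_center_ne_one hP (fun h => hQ1 (le_bot_iff.mp (h ▸ hQP)))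
  have hzZ : z ∈ Z := ⟨⟨z, hzP⟩, mem_center_iff.mpr fun t => Subtype.ext (hz t t.2), rfl⟩
  refine le_trans (Cores.normalizer_le_normalizer_map _) (hQ.2 Z ?_ fun h => hz1 (by simpa [h] using hzZ))
  rintro _ ⟨c, hc, rfl⟩
  exact mem_centralizer_iff.mpr fun q hq => congrArg Subtype.val (mem_center_iff.mp hc ⟨q, hQP hq⟩)

/-- Two conjugates of `Q` in one `p`-group are equal. -/
theorem mem_normalizer_of_conj_le {Q P : Subgroup G} (hQ : Cfsg.IsLarge Q) (hQ1 : Q ≠ ⊥)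
    (hP : IsPGroup p P) (hQP : Q ≤ P) {g : G} (hg : Q.map (MulAut.conj g).toMonoidHom ≤ P) :
    g ∈ normalizer (Q : Set G) := by
  obtain ⟨T, hT⟩ := hP.exists_le_sylow
  -- `T` normalizes both conjugates
  have hTQ : (T : Subgroup G) ≤ normalizer (Q : Set G) :=
    Subgroup.le_normalizer.trans (normalizer_le hQ hQ1 T.isPGroup' (hQP.trans hT))
  have hT' : ((g⁻¹ • T : Sylow p G) : Subgroup G) ≤ normalizer (Q : Set G) := by
    refine Subgroup.le_normalizer.trans (normalizer_le hQ hQ1 (g⁻¹ • T).isPGroup' ?_)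
    intro q hq
    have h1 : g * q * g⁻¹ ∈ (T : Subgroup G) := hT (hg ⟨q, hq, rfl⟩)
    have h2 := smul_mem_pointwise_smul _ (MulAut.conj g⁻¹) _ h1
    have h3 : MulAut.conj g⁻¹ • (g * q * g⁻¹) = q := by simp [mul_assoc]
    rw [h3] at h2
    exact h2
  obtain ⟨n, hn⟩ := MulAction.exists_smul_eq (normalizer (Q : Set G)) (T.subtype hTQ)
    ((g⁻¹ • T).subtype hT')
  rw [Sylow.smul_subtype] at hn
  have hn' : (n : G) • T = g⁻¹ • T := Sylow.subtype_injective hn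
  have h : g * (n : G) ∈ normalizer ((T : Subgroup G) : Set G) :=
    Sylow.smul_eq_iff_mem_normalizer.mp (by rw [mul_smul, hn', smul_inv_smul])
  have hmem := mul_mem (normalizer_le hQ hQ1 T.isPGroup' (hQP.trans hT) h) (inv_mem n.2)
  simpa using hmem

theorem conj_eq_of_le {Q P : Subgroup G} (hQ : Cfsg.IsLarge Q) (hQ1 : Q ≠ ⊥)
    (hP : IsPGroup p P) (hQP : Q ≤ P) {g : G} (hg : Q.map (MulAut.conj g).toMonoidHom ≤ P) :
    Q.map (MulAut.conj g).toMonoidHom = Q :=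
  mem_normalizer_iff_map_conj_eq.mp (mem_normalizer_of_conj_le hQ hQ1 hP hQP hg)

theorem conj_centralizer_normalizer_le {Q U : Subgroup G} (hQ : Cfsg.IsLarge Q) {g : G}
    (hU : U ≤ centralizer ((Q.map (MulAut.conj g).toMonoidHom : Subgroup G) : Set G)) (h1 : U ≠ ⊥) :
    normalizer (U : Set G) ≤
      normalizer ((Q.map (MulAut.conj g).toMonoidHom : Subgroup G) : Set G) := by
  intro x hx
  have h := hQ.2 (U.map (MulAut.conj g⁻¹).toMonoidHom) (by
    rintro _ ⟨u, hu, rfl⟩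
    refine mem_centralizer_iff.mpr fun q hq => ?_
    have := mem_centralizer_iff.mp (hU hu) _ ⟨q, hq, rfl⟩
    simp only [MulEquiv.coe_toMonoidHom, MulAut.conj_apply] at this ⊢
    calc q * (g⁻¹ * u * g⁻¹⁻¹) = g⁻¹ * (g * q * g⁻¹ * u) * g := by group
      _ = g⁻¹ * (u * (g * q * g⁻¹)) * g := by rw [this]
      _ = _ := by group)
    (by rwa [Ne, map_eq_bot_iff_of_injective _ (MulAut.conj g⁻¹).injective])
    (x := g⁻¹ * x * g) (by
      rw [← map_normalizer_eq_of_bijective _ (MulAut.conj g⁻¹).bijective]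
      exact ⟨x, hx, by simp [mul_assoc]⟩)
  rw [← map_normalizer_eq_of_bijective _ (MulAut.conj g).bijective]
  exact ⟨_, h, by simp [mul_assoc]⟩

theorem inf_centralizer_conj {Q : Subgroup G} (hQp : IsPGroup p Q) (hQ : Cfsg.IsLarge Q)
    (hQ1 : Q ≠ ⊥) {g : G} (hg : g ∉ normalizer (Q : Set G)) :
    centralizer (Q : Set G) ⊓
      centralizer ((Q.map (MulAut.conj g).toMonoidHom : Subgroup G) : Set G) = ⊥ := by
  set Qg := Q.map (MulAut.conj g).toMonoidHom with hQg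
  by_contra h
  set U := centralizer (Q : Set G) ⊓ centralizer (Qg : Set G) with hU
  have h2 : Qg ≤ normalizer (U : Set G) :=
    (le_centralizer_iff.mp (inf_le_right (a := centralizer (Q : Set G)))).trans (centralizer_le_normalizer _)
  have hle : Qg ≤ normalizer (Q : Set G) := h2.trans (hQ.2 U inf_le_left h)
  exact hg (mem_normalizer_of_conj_le hQ hQ1
    (IsPGroup.to_sup_of_normal_left' hQp (hQp.map _) hle) le_sup_left le_sup_right)

/-- `C_G(O_p(L))` is a `p`-group for `Q ≤ L`, `O_p(L) ≠ 1`. -/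
theorem isPGroup_centralizer_pCoreOf {Q : Subgroup G} (hQp : IsPGroup p Q) (hQ : Cfsg.IsLarge Q)
    (hQ1 : Q ≠ ⊥) {L : Subgroup G} (hQL : Q ≤ L) (hL : Cfsg.pCoreOf p L ≠ ⊥) :
    IsPGroup p (centralizer (Cfsg.pCoreOf p L : Set G)) := by
  set R := Cfsg.pCoreOf p L with hR
  set C := centralizer (R : Set G) with hC
  -- a fixed point of `Q` on `R`
  have hQR : Q ≤ normalizer (R : Set G) := hQL.trans (self_le_normalizer_pCoreOf L)
  have hsup : IsPGroup p ↥(R ⊔ Q : Subgroup G) :=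
    IsPGroup.to_sup_of_normal_left' (isPGroup_pCoreOf L) hQp hQR
  obtain ⟨z, hzR, hz1, hz⟩ : ∃ z ∈ R, z ≠ 1 ∧ ∀ q ∈ Q, q * z = z * q := by
    haveI : (R.subgroupOf (R ⊔ Q)).Normal :=
      Cores.subgroupOf_normal_of_le_normalizer (sup_le Subgroup.le_normalizer hQR)
    haveI : Nontrivial ↥((R.subgroupOf (R ⊔ Q)) ⊓ center ↥(R ⊔ Q : Subgroup G)) := by
      rw [Subgroup.nontrivial_iff_ne_bot]
      refine PGroup.inf_center_ne_bot hsup ?_
      rw [Ne, subgroupOf_eq_bot]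
      exact fun hd => hL (hd.eq_bot_of_le le_sup_left)
    obtain ⟨z, hz⟩ := exists_ne (1 : ↥((R.subgroupOf (R ⊔ Q)) ⊓ center ↥(R ⊔ Q : Subgroup G)))
    exact ⟨((z : ↥(R ⊔ Q : Subgroup G)) : G), z.2.1, fun h => hz (Subtype.ext (Subtype.ext h)),
      fun q hq => congrArg Subtype.val (mem_center_iff.mp z.2.2 ⟨q, mem_sup_right hq⟩)⟩
  have hCN : C ≤ normalizer (Q : Set G) :=
    (centralizer_le (Set.singleton_subset_iff.mpr hzR)).trans
      (centralizer_singleton_le hQ hz1 (mem_centralizer_iff.mpr hz))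
  -- `C ∩ Q` lies in `R`
  have hLC : L ≤ normalizer (C : Set G) := (self_le_normalizer_pCoreOf L).trans centralizer_normalized
  have hCQ : C ⊓ Q ≤ R := by
    have h1 : C ⊓ Q ≤ L ⊓ C := le_inf (inf_le_right.trans hQL) inf_le_left
    have h2 : L ⊓ C ≤ normalizer ((C ⊓ Q : Subgroup G) : Set G) := fun x hx =>
      inf_normalizer_le_normalizer_inf (mem_inf.mpr ⟨Subgroup.le_normalizer hx.2, hCN hx.2⟩)
    have h3 : C ⊓ Q ≤ Cfsg.pCoreOf p (L ⊓ C) := le_pCoreOf h1 h2 (hQp.to_le inf_le_right)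
    refine h3.trans (le_pCoreOf ((pCoreOf_le _).trans inf_le_left) ?_ (isPGroup_pCoreOf _))
    exact ((le_inf Subgroup.le_normalizer hLC).trans inf_normalizer_le_normalizer_inf).trans
      (le_normalizer_pCoreOf _)
  refine CharP.isPGroup_of_coprime_eq_one fun y hy hyp => ?_
  have hyQ : ∀ q ∈ Q, q * y * q⁻¹ * y⁻¹ ∈ R := by
    intro q hq
    refine hCQ (mem_inf.mpr ⟨C.mul_mem ((mem_normalizer_iff.mp (hLC (hQL hq)) y).mp hy) (C.inv_mem hy), ?_⟩)
    have := (mem_normalizer_iff.mp (hCN hy) q⁻¹).mp (Q.inv_mem hq)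
    simpa [mul_assoc] using Q.mul_mem hq this
  have hcomm : y ∈ centralizer (Q : Set G) := mem_centralizer_iff.mpr fun q hq => by
    obtain ⟨k, hk⟩ := isPGroup_pCoreOf L ⟨_, hyQ q hq⟩
    exact (CharP.eq_one_of_commute hyp ⟨k, by simpa using congrArg Subtype.val hk⟩
      (mem_centralizer_iff.mp hy _ (hyQ q hq))).eq
  have hyQ' : (orderOf (⟨y, hQ.1 hcomm⟩ : Q)).Coprime p := by rwa [Subgroup.orderOf_mk]
  obtain ⟨k, hk⟩ := IsPGroup.iff_orderOf.mp hQp ⟨y, hQ.1 hcomm⟩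
  rw [hk] at hyQ'
  rcases Nat.eq_zero_or_pos k with rfl | hk0
  · rw [pow_zero, orderOf_eq_one_iff] at hk
    exact congrArg Subtype.val hk
  · exact absurd (Nat.coprime_self p |>.mp ((Nat.coprime_pow_left_iff hk0 p p).mp hyQ'))
      (Fact.out : p.Prime).ne_one

/-- `L` has characteristic `p` for `Q ≤ L`, `O_p(L) ≠ 1`. -/
theorem inf_centralizer_le {Q : Subgroup G} (hQp : IsPGroup p Q) (hQ : Cfsg.IsLarge Q)
    (hQ1 : Q ≠ ⊥) {L : Subgroup G} (hQL : Q ≤ L) (hL : Cfsg.pCoreOf p L ≠ ⊥) :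
    L ⊓ centralizer (Cfsg.pCoreOf p L : Set G) ≤ Cfsg.pCoreOf p L :=
  le_pCoreOf inf_le_left (le_normalizer_inf_centralizer (self_le_normalizer_pCoreOf L))
    ((isPGroup_centralizer_pCoreOf hQp hQ hQ1 hQL hL).to_le inf_le_right)

theorem isOfParabolicCharacteristic {Q : Subgroup G} (hQp : IsPGroup p Q) (hQ : Cfsg.IsLarge Q)
    (hQ1 : Q ≠ ⊥) : Cfsg.IsOfParabolicCharacteristic p G := by
  intro R hRp hR1 hpar
  obtain ⟨T, hT⟩ := hpar
  obtain ⟨P, hP⟩ := hQp.exists_le_sylow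
  obtain ⟨g, hg⟩ := MulAction.exists_smul_eq G P T
  set Qg := Q.map (MulAut.conj g).toMonoidHom with hQg
  have hQgT : Qg ≤ (T : Subgroup G) := by
    rintro _ ⟨q, hq, rfl⟩
    have := smul_mem_pointwise_smul _ (MulAut.conj g) _ (hP hq)
    rw [← hg]; exact this
  have hlarge : Cfsg.IsLarge Qg := by
    refine ⟨?_, fun U hU h1 => conj_centralizer_normalizer_le hQ hU h1⟩
    intro x hx
    refine ⟨g⁻¹ * x * g, hQ.1 (mem_centralizer_iff.mpr fun q hq => ?_), by simp [mul_assoc]⟩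
    have := mem_centralizer_iff.mp hx _ ⟨q, hq, rfl⟩
    simp only [MulEquiv.coe_toMonoidHom, MulAut.conj_apply] at this
    calc q * (g⁻¹ * x * g) = g⁻¹ * (g * q * g⁻¹ * x) * g := by group
      _ = g⁻¹ * (x * (g * q * g⁻¹)) * g := by rw [this]
      _ = _ := by group
  have hne : Qg ≠ ⊥ := by
    rwa [hQg, Ne, map_eq_bot_iff_of_injective _ (MulAut.conj g).injective]
  have hN : Cfsg.pCoreOf p (normalizer (R : Set G)) ≠ ⊥ := fun h => hR1 (le_bot_iff.mp
    (h ▸ le_pCoreOf Subgroup.le_normalizer le_rfl hRp))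
  exact centralizer_pCore_iff.mpr
    (inf_centralizer_le (hQp.map _) hlarge hne (hQgT.trans hT) hN)

/-- `C(Y_L) ≤ N(Q)` for `Q ≤ T ≤ L ∈ 𝓛`. -/
theorem centralizer_yOf_le {Q : Subgroup G} (hQ : Cfsg.IsLarge Q) (T : Sylow p G)
    (hQT : Q ≤ (T : Subgroup G)) {L : Subgroup G} (hTL : (T : Subgroup G) ≤ L)
    (hL : L ∈ Cfsg.charPSubgroups p G) :
    centralizer (Cfsg.largestPReducedOf p L : Set G) ≤ normalizer (Q : Set G) := by
  obtain ⟨z, hzY, hz1, hz⟩ := exists_mem_yOf_center T hTL hL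
  exact (centralizer_le (Set.singleton_subset_iff.mpr hzY)).trans
    (centralizer_singleton_le hQ hz1 (mem_centralizer_iff.mpr fun q hq => hz q (hQT hq)))

/-- The weak closure of `Q` in `L` is generated by the `L`-conjugates of `Q`. -/
theorem weakClosure_eq {Q : Subgroup G} (hQp : IsPGroup p Q) (hQ : Cfsg.IsLarge Q) (hQ1 : Q ≠ ⊥)
    {L : Subgroup G} (hQL : Q ≤ L) :
    Cfsg.weakClosure Q L = ⨆ l : L, Q.map (MulAut.conj (l : G)).toMonoidHom := by
  refine le_antisymm (iSup_le ?_) (iSup_le fun l => ?_)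
  · rintro ⟨g, hg⟩
    obtain ⟨P, hP⟩ := (hQp.of_equiv (subgroupOfEquivOfLe hQL).symm).exists_le_sylow
    obtain ⟨P', hP'⟩ := ((hQp.map (MulAut.conj g).toMonoidHom).of_equiv
      (subgroupOfEquivOfLe hg).symm).exists_le_sylow
    obtain ⟨l, hl⟩ := MulAction.exists_smul_eq L P' P
    have h1 : Q.map (MulAut.conj ((l : G) * g)).toMonoidHom ≤ (P : Subgroup L).map L.subtype := by
      rintro _ ⟨q, hq, rfl⟩
      have hm : (⟨g * q * g⁻¹, hg ⟨q, hq, rfl⟩⟩ : L) ∈ (P' : Subgroup L) :=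
        hP' (mem_subgroupOf.mpr ⟨q, hq, rfl⟩)
      have h2 := smul_mem_pointwise_smul _ (MulAut.conj l) _ hm
      have h3 : MulAut.conj l • (⟨g * q * g⁻¹, hg ⟨q, hq, rfl⟩⟩ : L) ∈ ((l • P' : Sylow p L) : Subgroup L) := h2
      rw [hl] at h3
      exact ⟨_, h3, by simp [mul_assoc]⟩
    have h4 := conj_eq_of_le hQ hQ1 (P.isPGroup'.map L.subtype)
      (fun q hq => ⟨⟨q, hQL hq⟩, hP (mem_subgroupOf.mpr hq), rfl⟩) h1
    refine le_iSup_of_le l⁻¹ ?_
    rintro _ ⟨q, hq, rfl⟩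
    have : (l : G) * g * q * ((l : G) * g)⁻¹ ∈ Q := h4.le ⟨q, hq, rfl⟩
    exact ⟨_, this, by simp [mul_assoc]⟩
  · refine le_iSup_of_le (ι := {g : G // Q.map (MulAut.conj g).toMonoidHom ≤ L}) ⟨(l : G), ?_⟩ le_rfl
    rintro _ ⟨q, hq, rfl⟩
    exact L.mul_mem (L.mul_mem l.2 (hQL hq)) (L.inv_mem l.2)

omit [Finite G] in
theorem weakClosure_mono {Q L M : Subgroup G} (h : L ≤ M) :
    Cfsg.weakClosure Q L ≤ Cfsg.weakClosure Q M :=
  iSup_le fun g => le_iSup_of_le (ι := {g : G // Q.map (MulAut.conj g).toMonoidHom ≤ M})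
    ⟨g, g.2.trans h⟩ le_rfl

end Cfsg.Agent.LargeSub
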