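import Cfsg.Agent.Lib.LargeSub.PReducedOf
import Cfsg.Agent.Lib.CharP.Basic
import Cfsg.Agent.Lib.Coprime.Basic
import Cfsg.Agent.Lib.Transfer.Residual

/-!
# Series stabilisers and `O^p` of subgroups of an ambient group

* `stab A B`: elements normalizing `A`, `B` acting trivially on `A/B`; `commute_of_mem_stab`.
* `pRes p H`: `O^p(H)` in `G`; `mem_of_mem_sup_pGroup`, `pRes_le`, `pRes_sup_sylow`, `exists_normalizer_gt`.
* `ncl` facts: `normalClosure_map_le`, `le_normalClosure_map`, `le_normalizer_normalClosure_map`.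
* `pCoreOf` transitivity: `pCoreOf_le_of_normalized`, `pCoreOf_inf_le`.
-/

set_option autoImplicit false

namespace Cfsg.Agent.LargeSub

open Subgroup

variable {G : Type*} [Group G] {p : ℕ}

/-- The elements normalizing `A` and `B` that act trivially on `A/B`. -/
def stab (A B : Subgroup G) : Subgroup G where
  carrier := {k | k ∈ normalizer (A : Set G) ∧ k ∈ normalizer (B : Set G) ∧
    ∀ a ∈ A, k * a * k⁻¹ * a⁻¹ ∈ B}
  one_mem' := ⟨one_mem _, one_mem _, fun a _ => by simp⟩
  mul_mem' := by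
    rintro k l ⟨h1, h2, h3⟩ ⟨g1, g2, g3⟩
    refine ⟨mul_mem h1 g1, mul_mem h2 g2, fun a ha => ?_⟩
    have := B.mul_mem ((mem_normalizer_iff.mp h2 _).mp (g3 a ha)) (h3 a ha)
    convert this using 1; group
  inv_mem' := by
    rintro k ⟨h1, h2, h3⟩
    refine ⟨inv_mem h1, inv_mem h2, fun a ha => ?_⟩
    have := (mem_normalizer_iff''.mp h2 _).mp (B.inv_mem (h3 a ha))
    convert this using 1; group

theorem mem_stab {A B : Subgroup G} {k : G} : k ∈ stab A B ↔
    k ∈ normalizer (A : Set G) ∧ k ∈ normalizer (B : Set G) ∧ ∀ a ∈ A, k * a * k⁻¹ * a⁻¹ ∈ B :=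
  Iff.rfl

theorem conj_mem_stab {A B : Subgroup G} {g k : G} (hA : g ∈ normalizer (A : Set G))
    (hB : g ∈ normalizer (B : Set G)) (hk : k ∈ stab A B) : g * k * g⁻¹ ∈ stab A B := by
  obtain ⟨h1, h2, h3⟩ := hk
  refine ⟨mul_mem (mul_mem hA h1) (inv_mem hA), mul_mem (mul_mem hB h2) (inv_mem hB), fun a ha => ?_⟩
  have := (mem_normalizer_iff.mp hB _).mp (h3 _ ((mem_normalizer_iff''.mp hA a).mp ha))
  convert this using 1; group

/-- A `p'`-element acting trivially on `A/B` and on the `p`-group `B` centralizes `A`. -/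
theorem commute_of_mem_stab {A B : Subgroup G} {k : G} (hk : (orderOf k).Coprime p)
    (hB : IsPGroup p B) (hs : k ∈ stab A B) (hc : ∀ b ∈ B, Commute k b) {a : G} (ha : a ∈ A) :
    Commute a k := by
  have hc' : a * k * a⁻¹ * k⁻¹ ∈ B := by
    have := B.inv_mem (hs.2.2 a ha)
    convert this using 1; group
  obtain ⟨n, hn⟩ := hB ⟨_, hc'⟩
  exact CharP.eq_one_of_commute hk ⟨n, by simpa using congrArg Subtype.val hn⟩ (hc _ hc').symm

/-! ### `O^p` -/

/-- `O^p(H)` as a subgroup of the ambient group. -/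
def pRes (p : ℕ) (H : Subgroup G) : Subgroup G := (Cfsg.pResidual p ↥H).map H.subtype

theorem pRes_le (H : Subgroup G) : pRes p H ≤ H := map_subtype_le _

theorem mem_pRes {H : Subgroup G} {g : G} (hg : g ∈ H) (hp : (orderOf g).Coprime p) :
    g ∈ pRes p H :=
  ⟨⟨g, hg⟩, Transfer.mem_pResidual_of_coprime (by rwa [Subgroup.orderOf_mk]), rfl⟩

theorem normalizer_le_normalizer_pRes (H : Subgroup G) :
    normalizer (H : Set G) ≤ normalizer (pRes p H : Set G) :=
  Cores.normalizer_le_normalizer_map _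

theorem self_le_normalizer_pRes (H : Subgroup G) : H ≤ normalizer (pRes p H : Set G) :=
  Subgroup.le_normalizer.trans (normalizer_le_normalizer_pRes H)

theorem pRes_le_of_forall {H N : Subgroup G}
    (h : ∀ g ∈ H, (orderOf g).Coprime p → g ∈ N) : pRes p H ≤ N := by
  rw [pRes, map_le_iff_le_comap]
  refine (closure_le _).mpr fun g hg => h g g.2 ?_
  rw [Subgroup.orderOf_coe]; exact hg

variable [Finite G] [Fact p.Prime]

omit [Finite G] in
/-- A `p'`-element of `P N` lies in `N`, for a `p`-group `P` normalizing `N`. -/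
theorem mem_of_mem_sup_pGroup {P N : Subgroup G} (hP : IsPGroup p P)
    (hPN : P ≤ normalizer (N : Set G)) {g : G} (hg : g ∈ P ⊔ N) (hgp : (orderOf g).Coprime p) :
    g ∈ N := by
  obtain ⟨t, ht, n, hn, rfl⟩ := (mem_sup_mul hPN).mp hg
  obtain ⟨k, hk⟩ := hP ⟨t, ht⟩
  obtain ⟨c', hc', he⟩ := pow_mul_mem (hPN ht) hn (p ^ k)
  have hk' : t ^ p ^ k = 1 := by simpa using congrArg Subtype.val hk
  rw [hk', one_mul] at he
  have hcop : Nat.Coprime (p ^ k) (orderOf (t * n)) := (hgp.pow_right k).symm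
  obtain ⟨m, hm⟩ := exists_pow_eq_self_of_coprime hcop
  rw [← hm, he]
  exact N.pow_mem hc' m

omit [Finite G] in
theorem pRes_le_of_le_sup {H P N : Subgroup G} (hP : IsPGroup p P)
    (hPN : P ≤ normalizer (N : Set G)) (h : H ≤ P ⊔ N) : pRes p H ≤ N :=
  pRes_le_of_forall fun _ hg hgp => mem_of_mem_sup_pGroup hP hPN (h hg) hgp

theorem pRes_sup_sylow {H : Subgroup G} (T : Sylow p ↥H) :
    pRes p H ⊔ (T : Subgroup ↥H).map H.subtype = H := by
  rw [pRes, ← Subgroup.map_sup, PReduced.pResidual_sup_sylow T, ← MonoidHom.range_eq_map,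
    range_subtype]

/-- A proper subgroup containing `O^p(H)` grows under normalizers. -/
theorem exists_normalizer_gt {H P : Subgroup G} (hEP : pRes p H ≤ P) (hPH : P < H) :
    P < H ⊓ normalizer (P : Set G) := by
  set π := QuotientGroup.mk' (Cfsg.pResidual p ↥H) with hπ
  haveI := (Transfer.isPGroup_quotient_pResidual (p := p) (G := ↥H)).isNilpotent
  set P₀ := P.subgroupOf H with hP₀
  have hker : π.ker ≤ P₀ := by
    rw [hπ, QuotientGroup.ker_mk']
    exact fun x hx => mem_subgroupOf.mpr (hEP ⟨x, hx, rfl⟩)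
  have hback : (P₀.map π).comap π = P₀ := comap_map_eq_self hker
  have hlt : P₀.map π < ⊤ := by
    rw [lt_top_iff_ne_top]
    intro h
    rw [h, comap_top] at hback
    exact hPH.not_ge (subgroupOf_eq_top.mp hback.symm)
  obtain ⟨q, hq, hq0⟩ := SetLike.exists_of_lt (Group.normalizerCondition_of_isNilpotent _ hlt)
  obtain ⟨x, rfl⟩ := QuotientGroup.mk'_surjective _ q
  refine lt_of_le_of_ne (le_inf hPH.le Subgroup.le_normalizer) fun heq => hq0 ⟨x, ?_, rfl⟩
  refine mem_subgroupOf.mpr (heq.ge (mem_inf.mpr ⟨x.2, Coprime.mem_normalizer_of_forall fun z hz => ?_⟩))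
  have h1 : x * ⟨z, hPH.le hz⟩ * x⁻¹ ∈ (P₀.map π).comap π := by
    rw [mem_comap, map_mul, map_mul, map_inv]
    exact (mem_normalizer_iff.mp hq _).mp (mem_map_of_mem π (mem_subgroupOf.mpr hz))
  rw [hback] at h1
  exact h1

/-! ### Normal closures -/

omit [Finite G] [Fact p.Prime] in
theorem normalClosure_map_le {X H N : Subgroup G} (hXN : X ≤ N) (hN : H ≤ normalizer (N : Set G)) :
    (normalClosure ((X.subgroupOf H : Subgroup ↥H) : Set ↥H)).map H.subtype ≤ N := by
  rw [map_le_iff_le_comap]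
  haveI : (N.subgroupOf H).Normal := Cores.subgroupOf_normal_of_le_normalizer hN
  exact normalClosure_le_normal (N := N.subgroupOf H) fun x hx => hXN hx

omit [Finite G] [Fact p.Prime] in
theorem le_normalClosure_map {X H : Subgroup G} (hXH : X ≤ H) :
    X ≤ (normalClosure ((X.subgroupOf H : Subgroup ↥H) : Set ↥H)).map H.subtype :=
  fun x hx => ⟨⟨x, hXH hx⟩, subset_normalClosure (mem_subgroupOf.mpr hx), rfl⟩

omit [Fact p.Prime] in
theorem le_normalizer_normalClosure_map (X H : Subgroup G) :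
    H ≤ normalizer (((normalClosure ((X.subgroupOf H : Subgroup ↥H) : Set ↥H)).map H.subtype :
      Subgroup G) : Set G) := by
  intro g hg
  refine Coprime.mem_normalizer_of_forall ?_
  rintro _ ⟨x, hx, rfl⟩
  exact ⟨⟨g, hg⟩ * x * ⟨g, hg⟩⁻¹, normalClosure_normal.conj_mem x hx ⟨g, hg⟩, rfl⟩

omit [Finite G] [Fact p.Prime] in
theorem le_normalizer_commutator {A B : Subgroup G} :
    normalizer (A : Set G) ⊓ normalizer (B : Set G) ≤ normalizer ((⁅A, B⁆ : Subgroup G) : Set G) := by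
  intro g hg
  rw [mem_normalizer_iff_map_conj_eq, map_commutator,
    mem_normalizer_iff_map_conj_eq.mp hg.1, mem_normalizer_iff_map_conj_eq.mp hg.2]

/-! ### `O_p` -/

theorem pCoreOf_le_of_normalized {N L : Subgroup G} (hNL : N ≤ L)
    (hL : L ≤ normalizer (N : Set G)) : Cfsg.pCoreOf p N ≤ Cfsg.pCoreOf p L :=
  le_pCoreOf ((pCoreOf_le N).trans hNL) (hL.trans (le_normalizer_pCoreOf N)) (isPGroup_pCoreOf N)

theorem pCoreOf_inf_le {K L : Subgroup G} (hKL : K ≤ L) :
    Cfsg.pCoreOf p L ⊓ K ≤ Cfsg.pCoreOf p K :=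
  le_pCoreOf inf_le_right
    ((le_inf (hKL.trans (self_le_normalizer_pCoreOf L)) Subgroup.le_normalizer).trans
      inf_normalizer_le_normalizer_inf) ((isPGroup_pCoreOf L).to_le inf_le_left)

end Cfsg.Agent.LargeSub
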