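import Cfsg.Agent.Lib.LargeSub.Asym
import Cfsg.Agent.Lib.LargeSub.Stab

/-!
# The family `ℌ_G(O_p(M))`

Namespace `Cfsg.Agent.LargeSub.Hyp`: `charP_of_between`, `exists_frakH`, `pCoreOf_le_normalizer`,
`eq_of_normalized`, `pRes_sup_eq`, `commutator_pRes_eq`, `normalClosure_yOf_eq`, `sylow_inf_dag`.
-/

set_option autoImplicit false

namespace Cfsg.Agent.LargeSub.Hyp

open Subgroup
open scoped commutatorElement

variable {G : Type*} [Group G] [Finite G] {p : ℕ} [Fact p.Prime] {S : Sylow p G} {M : Subgroup G}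

theorem yOf_le_of_le (_h : Hyp p S M) {H : Subgroup G} (hRH : Cfsg.pCoreOf p M ≤ H) :
    Cfsg.largestPReducedOf p M ≤ H := (yOf_le_pCoreOf M).trans hRH

/-- `O_p(H)` normalizes `O_p(M)` for `H ≥ O_p(M)`. -/
theorem pCoreOf_le_normalizer (h : Hyp p S M) {H : Subgroup G} (hRH : Cfsg.pCoreOf p M ≤ H) :
    Cfsg.pCoreOf p H ≤ normalizer (Cfsg.pCoreOf p M : Set G) :=
  le_sup_left.trans (h.le_normalizer (IsPGroup.to_sup_of_normal_left' (isPGroup_pCoreOf H)
    (isPGroup_pCoreOf M) (hRH.trans (self_le_normalizer_pCoreOf H))) le_sup_right)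

/-- Between `O_p(M)` and a group of characteristic `p` all subgroups have characteristic `p`. -/
theorem charP_of_between (h : Hyp p S M) {H P : Subgroup G}
    (hH : centralizer (Cfsg.pCore p ↥H : Set ↥H) ≤ Cfsg.pCore p ↥H)
    (hRP : Cfsg.pCoreOf p M ≤ P) (hPH : P ≤ H) :
    centralizer (Cfsg.pCore p ↥P : Set ↥P) ≤ Cfsg.pCore p ↥P := by
  set R := Cfsg.pCoreOf p M with hR
  set A := Cfsg.pCoreOf p H with hA
  set B := A ⊓ P with hB
  have hAR : A ≤ normalizer (R : Set G) := h.pCoreOf_le_normalizer (hRP.trans hPH)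
  have hPA : P ≤ normalizer (A : Set G) := hPH.trans (self_le_normalizer_pCoreOf H)
  have hPB : P ≤ normalizer (B : Set G) :=
    (le_inf hPA Subgroup.le_normalizer).trans inf_normalizer_le_normalizer_inf
  have hBO : B ≤ Cfsg.pCoreOf p P := pCoreOf_inf_le hPH
  have hBp : IsPGroup p B := (isPGroup_pCoreOf H).to_le inf_le_left
  set U := P ⊓ stab A B ⊓ centralizer (B : Set G) with hU
  have hUP : U ≤ P := inf_le_left.trans inf_le_left
  have hUn : P ≤ normalizer (U : Set G) := fun g hg =>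
    Coprime.mem_normalizer_of_forall fun x hx =>
      mem_inf.mpr ⟨mem_inf.mpr ⟨P.mul_mem (P.mul_mem hg (hUP hx)) (P.inv_mem hg),
        conj_mem_stab (hPA hg) (hPB hg) hx.1.2⟩,
        (mem_normalizer_iff.mp (centralizer_normalized (hPB hg)) x).mp hx.2⟩
  have hUpg : IsPGroup p U := CharP.isPGroup_of_coprime_eq_one fun y hy hyp => by
    have hyH : y ∈ H := hPH (hUP hy)
    have hyc : ∀ a ∈ A, Commute a y := fun a ha => commute_of_mem_stab hyp hBp hy.1.2
      (fun b hb => (mem_centralizer_iff.mp hy.2 b hb).symm) ha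
    exact congrArg Subtype.val (CharP.eq_one_of_centralizes_pCore hH (y := ⟨y, hyH⟩)
      (by rwa [Subgroup.orderOf_mk]) fun r hr => Subtype.ext (hyc r ⟨r, hr, rfl⟩).symm.eq)
  have hUO : U ≤ Cfsg.pCoreOf p P := le_pCoreOf hUP hUn hUpg
  refine CharP.charP_of_forall fun x hx hxc => ?_
  have hxo : (orderOf (x : G)).Coprime p := by rwa [Subgroup.orderOf_coe]
  have hxc' : ∀ r ∈ Cfsg.pCoreOf p P, Commute (x : G) r := by
    rintro _ ⟨r, hr, rfl⟩
    exact congrArg Subtype.val (hxc r hr).eq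
  have hxB : (x : G) ∈ centralizer (B : Set G) :=
    mem_centralizer_iff.mpr fun b hb => (hxc' b (hBO hb)).symm.eq
  have hRs : R ≤ stab A B := fun r hr => mem_stab.mpr ⟨hPA (hRP hr), hPB (hRP hr), fun a ha => by
    refine mem_inf.mpr ⟨A.mul_mem ((mem_normalizer_iff.mp (hPA (hRP hr)) a).mp ha) (A.inv_mem ha),
      hRP ?_⟩
    have := R.mul_mem hr ((mem_normalizer_iff.mp (hAR ha) r⁻¹).mp (R.inv_mem hr))
    convert this using 1; group⟩
  have hxR : (x : G) ∈ centralizer (R : Set G) := mem_centralizer_iff.mpr fun r hr => by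
    have hc : r * (x : G) * r⁻¹ * (x : G)⁻¹ ∈ U := by
      refine mem_inf.mpr ⟨mem_inf.mpr ⟨P.mul_mem (P.mul_mem (P.mul_mem (hRP hr) x.2)
        (P.inv_mem (hRP hr))) (P.inv_mem x.2), ?_⟩, ?_⟩
      · rw [show r * (x : G) * r⁻¹ * (x : G)⁻¹ = r * ((x : G) * r⁻¹ * (x : G)⁻¹) by group]
        exact mul_mem (hRs hr) (conj_mem_stab (hPA x.2) (hPB x.2) (inv_mem (hRs hr)))
      · exact mul_mem ((mem_normalizer_iff.mp (centralizer_normalized (hPB (hRP hr))) _).mp hxB)
          (inv_mem hxB)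
    obtain ⟨k, hk⟩ := hUpg ⟨_, hc⟩
    exact (CharP.eq_one_of_commute hxo ⟨k, by simpa using congrArg Subtype.val hk⟩
      (hxc' _ (hUO hc)).symm).eq
  obtain ⟨k, hk⟩ := IsPGroup.iff_orderOf.mp (isPGroup_pCoreOf M)
    ⟨(x : G), h.centralizer_pCoreOf_le hxR⟩
  rw [Subgroup.orderOf_mk] at hk
  exact Subtype.ext (orderOf_eq_one_iff.mp
    (Nat.eq_one_of_dvd_coprimes (hxo.pow_right k) dvd_rfl (dvd_of_eq hk)))

/-- `ℌ_G(O_p(M))` is nonempty if `Y_M` is char-`p`-tall. -/
theorem exists_frakH (h : Hyp p S M)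
    (htall : Cfsg.IsCharPTall p (Cfsg.largestPReducedOf p M)) :
    ∃ H : Subgroup G, Cfsg.IsInFrakH p M H := by
  set Y := Cfsg.largestPReducedOf p M with hY
  set R := Cfsg.pCoreOf p M with hR
  set C := centralizer (Y : Set G) with hC
  obtain ⟨T, L, hTL, hL, hYL⟩ := htall
  have hRC : R ≤ C := pCoreOf_le_centralizer_yOf M
  obtain ⟨T', hT'⟩ := ((isPGroup_pCoreOf M).of_equiv (subgroupOfEquivOfLe hRC).symm).exists_le_sylow
  obtain ⟨c, hc⟩ := MulAction.exists_smul_eq C T' T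
  set e := MulAut.conj ((c : G)⁻¹) with he
  set L' := L.map e.toMonoidHom with hL'
  have hRL : R ≤ L' := by
    intro r hr
    refine ⟨(c : G) * r * (c : G)⁻¹, hTL ?_, by simp [he, mul_assoc]⟩
    have h1 := Subgroup.smul_mem_pointwise_smul _ (MulAut.conj c) _
      (hT' (mem_subgroupOf.mpr hr : (⟨r, hRC hr⟩ : C) ∈ R.subgroupOf C))
    have h2 : MulAut.conj c • (⟨r, hRC hr⟩ : C) ∈ ((c • T' : Sylow p C) : Subgroup C) := h1
    rw [hc] at h2
    exact ⟨_, h2, rfl⟩
  have hL'c : centralizer (Cfsg.pCore p ↥L' : Set ↥L') ≤ Cfsg.pCore p ↥L' :=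
    CharP.charP_of_equiv (L.equivMapOfInjective e.toMonoidHom e.injective) hL
  have hYL' : ¬ Y ≤ Cfsg.pCoreOf p L' := by
    intro hle
    refine hYL fun y hy => ?_
    obtain ⟨⟨l, hl⟩, hlp, hly⟩ := hle hy
    obtain ⟨l₀, hl₀, hll⟩ := hl
    have e1 : Cfsg.pCore p ↥L' = _ :=
      (Cores.pCore_map_mulEquiv (L.equivMapOfInjective e.toMonoidHom e.injective) p).symm
    rw [e1] at hlp
    obtain ⟨z, hz, hzl⟩ := hlp
    refine ⟨z, hz, ?_⟩
    have e2 : (c : G)⁻¹ * (z : G) * (c : G) = y := by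
      rw [← hly]
      have := congrArg Subtype.val hzl
      have hz' : (c : G)⁻¹ * (z : G) * (c : G)⁻¹⁻¹ = l := this
      rw [inv_inv] at hz'
      exact hz'
    have e3 : y * (c : G) = (c : G) * y := mem_centralizer_iff.mp c.2 y hy
    show (z : G) = y
    calc (z : G) = (c : G) * ((c : G)⁻¹ * z * c) * (c : G)⁻¹ := by group
      _ = (c : G) * y * (c : G)⁻¹ := by rw [e2]
      _ = y := by rw [← e3]; group
  obtain ⟨H, ⟨hRH, hHL, hYH⟩, hmin⟩ := Set.exists_min_image
    {P : Subgroup G | R ≤ P ∧ P ≤ L' ∧ ¬ Y ≤ Cfsg.pCoreOf p P} (fun P => Nat.card P)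
    (Set.toFinite _) ⟨L', hRL, le_rfl, hYL'⟩
  refine ⟨H, h.charP_of_between hL'c hRH hHL, hRH, hYH, fun P hRP hPH => ?_⟩
  by_contra hn
  exact hPH.ne (eq_of_le_of_card_ge hPH.le (hmin P ⟨hRP, hPH.le.trans hHL, hn⟩))

variable {H : Subgroup G}

theorem eq_of_normalized (_h : Hyp p S M) (hH : Cfsg.IsInFrakH p M H) {N : Subgroup G}
    (hRN : Cfsg.pCoreOf p M ≤ N) (hNH : N ≤ H) (hn : H ≤ normalizer (N : Set G)) : N = H := by
  by_contra hne
  exact hH.2.2.1 ((hH.2.2.2 N hRN (lt_of_le_of_ne hNH hne)).trans (pCoreOf_le_of_normalized hNH hn))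

theorem normalClosure_pCoreOf_eq (h : Hyp p S M) (hH : Cfsg.IsInFrakH p M H) :
    (normalClosure (((Cfsg.pCoreOf p M).subgroupOf H : Subgroup ↥H) : Set ↥H)).map H.subtype = H :=
  h.eq_of_normalized hH (le_normalClosure_map hH.2.1) (map_subtype_le _)
    (le_normalizer_normalClosure_map _ _)

/-- `H = O^p(H) O_p(M)`. -/
theorem pRes_sup_eq (_h : Hyp p S M) (hH : Cfsg.IsInFrakH p M H) :
    pRes p H ⊔ Cfsg.pCoreOf p M = H := by
  set Y := Cfsg.largestPReducedOf p M
  set P₁ := pRes p H ⊔ Cfsg.pCoreOf p M with hP₁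
  by_contra hne
  have hlt : P₁ < H := lt_of_le_of_ne (sup_le (pRes_le H) hH.2.1) hne
  obtain ⟨P, ⟨hP, hPH, hYP⟩, hmax⟩ := Set.exists_max_image
    {P : Subgroup G | P₁ ≤ P ∧ P ≤ H ∧ Y ≤ Cfsg.pCoreOf p P} (fun P => Nat.card P)
    (Set.toFinite _) ⟨P₁, le_rfl, hlt.le, hH.2.2.2 P₁ le_sup_right hlt⟩
  rcases eq_or_lt_of_le hPH with rfl | hPlt
  · exact hH.2.2.1 hYP
  · have hgt := exists_normalizer_gt (le_sup_left.trans hP) hPlt
    refine hgt.ne (eq_of_le_of_card_ge hgt.le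
      (hmax _ ⟨hP.trans hgt.le, inf_le_left, hYP.trans ?_⟩))
    exact pCoreOf_le_of_normalized hgt.le inf_le_right

theorem le_pRes_sup (h : Hyp p S M) (hH : Cfsg.IsInFrakH p M H) :
    H ≤ pRes p H ⊔ Cfsg.pCoreOf p M := (h.pRes_sup_eq hH).ge

theorem yOf_normalizes_pRes (h : Hyp p S M) (hH : Cfsg.IsInFrakH p M H) :
    Cfsg.largestPReducedOf p M ≤ normalizer (pRes p H : Set G) :=
  (h.yOf_le_of_le hH.2.1).trans (self_le_normalizer_pRes H)

/-- `[O^p(H), Y] = O^p(H)`. -/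
theorem commutator_pRes_eq (h : Hyp p S M) (hH : Cfsg.IsInFrakH p M H) :
    ⁅pRes p H, Cfsg.largestPReducedOf p M⁆ = pRes p H := by
  set Y := Cfsg.largestPReducedOf p M with hY
  set E := pRes p H with hE
  set R := Cfsg.pCoreOf p M with hR
  set N := ⁅E, Y⁆ with hN
  have hNE : N ≤ E := le_normalizer_iff_commutator_le_left.mp (h.yOf_normalizes_pRes hH)
  have hRn : R ≤ normalizer (N : Set G) :=
    (le_inf (hH.2.1.trans (self_le_normalizer_pRes H))
      ((pCoreOf_le M).trans (yOf_normalized M))).trans le_normalizer_commutator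
  have hEn : E ≤ normalizer (N : Set G) := normalizer_commutator_ge_left E Y
  refine le_antisymm hNE ?_
  by_cases hlt : R ⊔ N = H
  · exact pRes_le_of_le_sup (isPGroup_pCoreOf M) hRn hlt.ge
  exfalso
  have hRNH : R ⊔ N ≤ H := sup_le hH.2.1 (hNE.trans (pRes_le H))
  have hYP := hH.2.2.2 _ le_sup_left (lt_of_le_of_ne hRNH hlt)
  set N₂ := N ⊔ Y with hN₂
  have hN₂P : N₂ ≤ R ⊔ N := sup_le le_sup_right ((yOf_le_pCoreOf M).trans le_sup_left)
  have hN₂n : H ≤ normalizer (N₂ : Set G) := by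
    refine (h.le_pRes_sup hH).trans (sup_le (fun e he => ?_) ?_)
    · refine Coprime.mem_normalizer_of_forall fun x hx => ?_
      have hle : N₂ ≤ N₂.comap (MulAut.conj e).toMonoidHom := by
        refine sup_le (fun n hn => mem_sup_left ((mem_normalizer_iff.mp (hEn he) n).mp hn))
          fun y hy => ?_
        show e * y * e⁻¹ ∈ N₂
        have h1 : ⁅e, y⁆ ∈ N := commutator_mem_commutator he hy
        have := mul_mem (mem_sup_left (T := Y) h1) (mem_sup_right (S := N) hy)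
        convert this using 1; rw [commutatorElement_def]; group
      exact hle hx
    · exact (le_inf hRn ((pCoreOf_le M).trans (yOf_normalized M))).trans
        (normalizer_inf_normalizer_le_normalizer_sup _ _)
  exact hH.2.2.1 (((le_inf hYP le_sup_right).trans (pCoreOf_inf_le hN₂P)).trans
    (pCoreOf_le_of_normalized (hN₂P.trans hRNH) hN₂n))

/-- `O^p(H) Y` is the normal closure of `Y` in `H`. -/
theorem normalClosure_yOf_eq (h : Hyp p S M) (hH : Cfsg.IsInFrakH p M H) :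
    (normalClosure (((Cfsg.largestPReducedOf p M).subgroupOf H : Subgroup ↥H) : Set ↥H)).map H.subtype =
      pRes p H ⊔ Cfsg.largestPReducedOf p M := by
  set Y := Cfsg.largestPReducedOf p M with hY
  set E := pRes p H with hE
  set W := (normalClosure ((Y.subgroupOf H : Subgroup ↥H) : Set ↥H)).map H.subtype
  have hYH : Y ≤ H := h.yOf_le_of_le hH.2.1
  refine le_antisymm (normalClosure_map_le le_sup_right ?_) (sup_le ?_ (le_normalClosure_map hYH))
  · refine (h.le_pRes_sup hH).trans (sup_le (le_sup_left.trans Subgroup.le_normalizer) ?_)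
    exact (le_inf (hH.2.1.trans (self_le_normalizer_pRes H))
      ((pCoreOf_le M).trans (yOf_normalized M))).trans
      (normalizer_inf_normalizer_le_normalizer_sup _ _)
  · refine (h.commutator_pRes_eq hH).ge.trans ((commutator_mono le_rfl (le_normalClosure_map hYH)).trans ?_)
    exact le_normalizer_iff_commutator_le_right.mp
      ((pRes_le H).trans (le_normalizer_normalClosure_map _ _))

omit [Finite G] [Fact p.Prime] in
theorem map_le_self {K L : Subgroup G} (T : Subgroup ↥K) (h : K ≤ L) : T.map K.subtype ≤ L :=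
  (map_subtype_le _).trans h

/-- A parabolic subgroup `K` of `H` shares its Sylow subgroups with `H`. -/
theorem exists_sylow_map_eq {K L : Subgroup G} (hKH : K ≤ L)
    (hpar : Cfsg.IsParabolic p (K.subgroupOf L)) (T : Sylow p ↥K) :
    ∃ P : Sylow p ↥L, (P : Subgroup ↥L).map L.subtype = (T : Subgroup ↥K).map K.subtype := by
  obtain ⟨P₀, hP₀⟩ := hpar
  set T' := (T : Subgroup ↥K).map K.subtype with hT'
  have hT'H : T' ≤ L := map_le_self _ hKH
  obtain ⟨P, hP⟩ := ((T.isPGroup'.map K.subtype).of_equiv (subgroupOfEquivOfLe hT'H).symm).exists_le_sylow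
  refine ⟨P, (eq_of_le_of_card_ge ?_ ?_).symm⟩
  · exact fun t ht => ⟨⟨t, hT'H ht⟩, hP (mem_subgroupOf.mpr ht), rfl⟩
  · rw [Cores.card_map_subtype]
    have hP₀K : (P₀ : Subgroup ↥L).map L.subtype ≤ K := by
      rintro _ ⟨x, hx, rfl⟩; exact hP₀ hx
    obtain ⟨T₁, hT₁⟩ := ((P₀.isPGroup'.map L.subtype).of_equiv
      (subgroupOfEquivOfLe hP₀K).symm).exists_le_sylow
    calc Nat.card (P : Subgroup ↥L) = Nat.card (P₀ : Subgroup ↥L) := Nat.card_congr (P.equiv P₀).toEquiv
      _ = Nat.card (((P₀ : Subgroup ↥L).map L.subtype).subgroupOf K) := by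
        rw [Cores.card_subgroupOf hP₀K, Cores.card_map_subtype]
      _ ≤ Nat.card (T₁ : Subgroup ↥K) := card_le_of_le hT₁
      _ = Nat.card T' := by rw [hT', Cores.card_map_subtype]; exact Nat.card_congr (T₁.equiv T).toEquiv

/-- Sylow subgroups of `H ∩ M†` are Sylow in `H`. -/
theorem sylow_inf_dag (h : Hyp p S M) (hRH : Cfsg.pCoreOf p M ≤ H)
    (T : Sylow p ↥(H ⊓ (M ⊔ centralizer (Cfsg.largestPReducedOf p M : Set G)))) :
    ∃ P : Sylow p ↥H, (P : Subgroup ↥H).map H.subtype =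
      (T : Subgroup ↥(H ⊓ (M ⊔ centralizer (Cfsg.largestPReducedOf p M : Set G)))).map
        (H ⊓ (M ⊔ centralizer (Cfsg.largestPReducedOf p M : Set G))).subtype :=
  exists_sylow_map_eq inf_le_left (h.isParabolic_inf_dag hRH) T

end Cfsg.Agent.LargeSub.Hyp
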