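import Cfsg.Agent.Lib.LargeSub.PReducedOf

/-!
# Existence of members of `𝔐`

`exists_frakM`: in parabolic characteristic `p`, for `T ≤ L ∈ 𝓛` there are `M ∈ 𝔐` and `L* ≤ M` with the
same `Y` and the same image as `L` on `Y_L`.
-/

set_option autoImplicit false

namespace Cfsg.Agent.LargeSub

open Subgroup
open scoped Pointwise

variable {G : Type*} [Group G] [Finite G] {p : ℕ} [Fact p.Prime]

/-- A supplement minimal over `T` normalizes `T ∩ C`. -/
theorem le_normalizer_of_minimal_supplement (T : Sylow p G) {C X M : Subgroup G}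
    (hTM : (T : Subgroup G) ≤ M) (hMC : M ≤ normalizer (C : Set G)) (hX : X ≤ M ⊔ C)
    (hmin : ∀ N : Subgroup G, (T : Subgroup G) ≤ N → N ≤ M → X ≤ N ⊔ C → N = M) :
    M ≤ normalizer (((T : Subgroup G) ⊓ C : Subgroup G) : Set G) := by
  haveI : (C.subgroupOf M).Normal := Cores.subgroupOf_normal_of_le_normalizer hMC
  have hN := hmin (M ⊓ normalizer (((T : Subgroup G) ⊓ C : Subgroup G) : Set G)) ?_ inf_le_left ?_
  · exact hN.ge.trans inf_le_right
  · refine le_inf hTM ?_
    exact (le_inf Subgroup.le_normalizer (hTM.trans hMC)).trans inf_normalizer_le_normalizer_inf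
  · refine hX.trans (sup_le (fun m hm => ?_) le_sup_right)
    obtain ⟨a, ha, c, hc, hac⟩ :=
      PReduced.frattini_sylow_inf_mul (T.subtype hTM) (C.subgroupOf M) ⟨m, hm⟩
    have e : m = (a : G) * (c : G) := congrArg Subtype.val hac
    rw [e]
    refine mul_mem (mem_sup_left (mem_inf.mpr ⟨a.2, ?_⟩)) (mem_sup_right (mem_subgroupOf.mp hc))
    rw [mem_normalizer_iff]
    intro n
    have hiff := mem_normalizer_iff.mp ha
    constructor
    · exact fun hn => ⟨((hiff ⟨n, hTM hn.1⟩).mp ⟨hn.1, hn.2⟩).1, ((hiff ⟨n, hTM hn.1⟩).mp ⟨hn.1, hn.2⟩).2⟩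
    · intro hn
      have hnM : n ∈ M := by
        have := M.mul_mem (M.mul_mem (M.inv_mem a.2) (hTM hn.1)) a.2
        simpa [mul_assoc] using this
      exact ⟨((hiff ⟨n, hnM⟩).mpr ⟨hn.1, hn.2⟩).1, ((hiff ⟨n, hnM⟩).mpr ⟨hn.1, hn.2⟩).2⟩

theorem exists_minimal_supplement (T : Sylow p G) {C X M : Subgroup G}
    (hTM : (T : Subgroup G) ≤ M) (hX : X ≤ M ⊔ C) :
    ∃ N : Subgroup G, (T : Subgroup G) ≤ N ∧ N ≤ M ∧ X ≤ N ⊔ C ∧
      ∀ N' : Subgroup G, (T : Subgroup G) ≤ N' → N' ≤ N → X ≤ N' ⊔ C → N' = N := by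
  obtain ⟨N, ⟨h1, h2, h3⟩, hmin⟩ := Set.exists_min_image
    {N : Subgroup G | (T : Subgroup G) ≤ N ∧ N ≤ M ∧ X ≤ N ⊔ C} (fun N => Nat.card N)
    (Set.toFinite _) ⟨M, hTM, le_rfl, hX⟩
  exact ⟨N, h1, h2, h3, fun N' h4 h5 h6 =>
    eq_of_le_of_card_ge h5 (hmin N' ⟨h4, h5.trans h2, h6⟩)⟩

theorem exists_frakM (hG : Cfsg.IsOfParabolicCharacteristic p G) (T : Sylow p G) {L : Subgroup G}
    (hTL : (T : Subgroup G) ≤ L) (hL : L ∈ Cfsg.charPSubgroups p G) :
    ∃ M Ls : Subgroup G, (T : Subgroup G) ≤ M ∧ Cfsg.IsInFrakM p M ∧ (T : Subgroup G) ≤ Ls ∧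
      Ls ≤ M ∧ Ls ∈ Cfsg.charPSubgroups p G ∧
      Cfsg.largestPReducedOf p L = Cfsg.largestPReducedOf p Ls ∧
      Cfsg.largestPReducedOf p L ≤ Cfsg.largestPReducedOf p M ∧
      L ⊔ centralizer (Cfsg.largestPReducedOf p L : Set G) =
        Ls ⊔ centralizer (Cfsg.largestPReducedOf p L : Set G) := by
  set V := Cfsg.largestPReducedOf p L with hV
  set C := centralizer (V : Set G) with hC
  have hVT : V ≤ (T : Subgroup G) := yOf_le_sylow T hTL
  have hLd : L ⊔ C ≤ normalizer (V : Set G) := dag_le_normalizer L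
  -- choose `X` with `|Y_X|` as large as possible
  obtain ⟨X, ⟨hXc, hTX, hVX, hLX⟩, hmax⟩ := Set.exists_max_image
    {X : Subgroup G | X ∈ Cfsg.charPSubgroups p G ∧ (T : Subgroup G) ≤ X ∧
      V ≤ Cfsg.largestPReducedOf p X ∧ L ≤ (X ⊓ (L ⊔ C)) ⊔ C}
    (fun X => Nat.card (Cfsg.largestPReducedOf p X))
    (Set.toFinite _) ⟨L, hL, hTL, le_rfl, le_sup_of_le_left (le_inf le_rfl le_sup_left)⟩
  have hgrow : ∀ X₁ X₂ : Subgroup G, (T : Subgroup G) ≤ X₁ → X₁ ≤ X₂ →
      V ≤ Cfsg.largestPReducedOf p X₁ → L ≤ (X₁ ⊓ (L ⊔ C)) ⊔ C →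
      X₂ ∈ Cfsg.charPSubgroups p G → X₂ ∈ {X : Subgroup G | X ∈ Cfsg.charPSubgroups p G ∧
        (T : Subgroup G) ≤ X ∧ V ≤ Cfsg.largestPReducedOf p X ∧ L ≤ (X ⊓ (L ⊔ C)) ⊔ C} := by
    intro X₁ X₂ hT hle hV₁ hL₁ h₂
    exact ⟨h₂, hT.trans hle, hV₁.trans (yOf_mono T hT hle h₂),
      hL₁.trans (sup_le_sup_right (inf_le_inf_right _ hle) _)⟩
  obtain ⟨M₁, hM₁, hXM₁⟩ := exists_max_charP hXc
  set Y := Cfsg.largestPReducedOf p M₁ with hY
  set D := centralizer (Y : Set G) with hD
  obtain ⟨-, hTM₁, hVY, hLM₁⟩ := hgrow X M₁ hTX hXM₁ hVX hLX hM₁.1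
  have hDC : D ≤ C := centralizer_le (SetLike.coe_subset_coe.mpr hVY)
  have hTdag : (T : Subgroup G) ≤ M₁ ⊔ D := hTM₁.trans le_sup_left
  have hdag : M₁ ⊔ D ∈ Cfsg.charPSubgroups p G := by
    refine charP_of_parabolic hG T hTdag fun h => yOf_ne_bot T hTM₁ hM₁.1 (le_bot_iff.mp (h ▸ ?_))
    exact le_pCoreOf ((yOf_le M₁).trans le_sup_left) (dag_le_normalizer M₁) (yOf_isPGroup M₁)
  have hDM₁ : D ≤ M₁ := (hM₁.2 _ hdag le_sup_left) ▸ le_sup_right
  have hYmax : Nat.card Y ≥ Nat.card (Cfsg.largestPReducedOf p X) :=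
    Nat.le_of_dvd Nat.card_pos (Subgroup.card_dvd_of_le (yOf_mono T hTX hXM₁ hM₁.1))
  -- a minimal supplement
  obtain ⟨M, hTM, hMM₁, hsupp, hmin⟩ := exists_minimal_supplement T (C := D) (X := M₁) hTM₁ le_sup_left
  have hMn : M ≤ normalizer (Y : Set G) := hMM₁.trans (yOf_normalized M₁)
  have hMD : M ⊔ D = M₁ := le_antisymm (sup_le hMM₁ hDM₁) hsupp
  have hMc : M ∈ Cfsg.charPSubgroups p G := charP_of_le T hM₁.1 hTM hMM₁
  have hYM : Cfsg.largestPReducedOf p M = Y := le_antisymm (yOf_mono T hTM hMM₁ hM₁.1)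
    (yOf_le_yOf_of_same_image ((yOf_le_sylow T hTM₁).trans hTM) hMn
      (hMM₁.trans le_sup_left) hsupp)
  have hLM : L ≤ (M ⊓ (L ⊔ C)) ⊔ C := by
    refine hLM₁.trans (sup_le (fun x hx => ?_) le_sup_right)
    obtain ⟨m, hm, d, hd, hmd⟩ := (mem_sup_mul (hMn.trans centralizer_normalized)).mp (hsupp hx.1)
    have hmL : m ∈ L ⊔ C := by
      rw [show m = x * d⁻¹ by rw [← hmd]; group]
      exact mul_mem hx.2 (mem_sup_right (C.inv_mem (hDC hd)))
    rw [← hmd]
    exact mul_mem (mem_sup_left (mem_inf.mpr ⟨hm, hmL⟩)) (mem_sup_right (hDC hd))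
  have hVM : V ≤ Cfsg.largestPReducedOf p M := hYM.symm ▸ hVY
  have hmin' := le_normalizer_of_minimal_supplement T hTM (hMn.trans centralizer_normalized) hsupp hmin
  have hfrak : Cfsg.IsInFrakM p M := by
    refine ⟨hMc, ?_, fun X' hX' hMX' => ?_, ?_, ?_, ?_⟩
    · rw [hYM, hMD]; exact hM₁
    · rw [hYM, hMD]
      have hX'mem := hgrow M X' hTM hMX' hVM hLM hX'.1
      have h1 : Y ≤ Cfsg.largestPReducedOf p X' := hYM ▸ yOf_mono T hTM hMX' hX'.1
      have h2 : Y = Cfsg.largestPReducedOf p X' :=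
        eq_of_le_of_card_ge h1 ((hmax X' hX'mem).trans hYmax)
      have hdag' : X' ⊔ D ∈ Cfsg.charPSubgroups p G := by
        have hT' : (T : Subgroup G) ≤ X' := hTM.trans hMX'
        refine charP_of_parabolic hG T (hT'.trans le_sup_left) fun h =>
          yOf_ne_bot T hT' hX'.1 (le_bot_iff.mp (h ▸ ?_))
        refine le_pCoreOf ((yOf_le X').trans le_sup_left) ?_ (yOf_isPGroup X')
        rw [hD, h2]
        exact dag_le_normalizer X'
      have hle : M₁ ≤ X' := hMD ▸ sup_le hMX' ((hX'.2 _ hdag' le_sup_left) ▸ le_sup_right)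
      exact hM₁.2 X' hX'.1 hle
    · rw [hYM, hMD]
    · rw [hYM]
      -- `T ∩ D` is normal in `M ∩ D`
      intro P
      set T₁ := (T : Subgroup G) ⊓ D with hT₁
      have hT₁le : T₁ ≤ M ⊓ D := inf_le_inf_right _ hTM
      have hn : (T₁.subgroupOf (M ⊓ D)).Normal :=
        Cores.subgroupOf_normal_of_le_normalizer (inf_le_left.trans hmin')
      have hp₁ : IsPGroup p (T₁.subgroupOf (M ⊓ D)) :=
        (T.isPGroup'.to_le inf_le_left).of_equiv (subgroupOfEquivOfLe hT₁le).symm
      have hidx : ¬ p ∣ (T₁.subgroupOf (M ⊓ D)).index := by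
        haveI : ((M ⊓ D).subgroupOf M).Normal := Cores.subgroupOf_normal_of_le_normalizer
          ((le_inf Subgroup.le_normalizer (hMn.trans centralizer_normalized)).trans
            inf_normalizer_le_normalizer_inf)
        have h := PReduced.sylow_relIndex_coprime (T.subtype hTM) ((M ⊓ D).subgroupOf M)
        have e : ((T.subtype hTM : Sylow p M) : Subgroup M).relIndex ((M ⊓ D).subgroupOf M) =
            (T : Subgroup G).relIndex (M ⊓ D) := by
          show ((T : Subgroup G).subgroupOf M).relIndex ((M ⊓ D).subgroupOf M) = _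
          rw [relIndex_subgroupOf inf_le_left]
        have e2 : (T₁.subgroupOf (M ⊓ D)).index = (T : Subgroup G).relIndex (M ⊓ D) := by
          have h3 : (T : Subgroup G) ⊓ (M ⊓ D) = T₁ := by
            rw [← inf_assoc, inf_of_le_left hTM]
          show T₁.relIndex (M ⊓ D) = _
          rw [← h3, inf_relIndex_right]
        rw [e, ← e2] at h
        exact fun hd => (Fact.out : p.Prime).ne_one
          (Nat.dvd_one.mp (h.gcd_eq_one ▸ Nat.dvd_gcd hd dvd_rfl))
      have hPn : (hp₁.toSylow hidx : Subgroup ↥(M ⊓ D)).Normal := hn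
      haveI := Sylow.unique_of_normal (hp₁.toSylow hidx) hPn
      rw [Subsingleton.elim P (hp₁.toSylow hidx)]
      exact hPn
    · rw [hYM]
      rw [frattini, Order.radical]
      refine le_iInf₂ fun K hK => ?_
      by_contra hle
      set K' : Subgroup G := (K.comap (QuotientGroup.mk' (Cfsg.pCore p M))).map M.subtype with hK'
      have hK'M : K' ≤ M := map_subtype_le _
      have hcore : ∀ x : M, x ∈ Cfsg.pCore p M → (x : G) ∈ K' := fun x hx =>
        ⟨x, by rw [SetLike.mem_coe, mem_comap, QuotientGroup.mk'_apply,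
          (QuotientGroup.eq_one_iff x).mpr hx]; exact K.one_mem, rfl⟩
      have hcoat : IsCoatom (K.comap (QuotientGroup.mk' (Cfsg.pCore p M))) := by
        refine ⟨fun h => hK.1 (comap_injective (QuotientGroup.mk'_surjective _)
          (h.trans (comap_top _).symm)), fun U hU => ?_⟩
        have hker : (QuotientGroup.mk' (Cfsg.pCore p M)).ker ≤ U :=
          le_trans (MonoidHom.comap_bot (QuotientGroup.mk' (Cfsg.pCore p M)) ▸ comap_mono bot_le) hU.le
        have h1 := hK.2 (U.map (QuotientGroup.mk' _)) (lt_of_le_of_ne ?_ fun h => hU.ne ?_)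
        · rw [← comap_map_eq_self hker, h1, comap_top]
        · rw [← map_comap_eq_self_of_surjective (QuotientGroup.mk'_surjective (Cfsg.pCore p M)) K]
          exact map_mono hU.le
        · rw [h, comap_map_eq_self hker]
      haveI : ((M ⊓ D).subgroupOf M).Normal := Cores.subgroupOf_normal_of_le_normalizer
        ((le_inf Subgroup.le_normalizer (hMn.trans centralizer_normalized)).trans
          inf_normalizer_le_normalizer_inf)
      have htop : K.comap (QuotientGroup.mk' (Cfsg.pCore p M)) ⊔ (M ⊓ D).subgroupOf M = ⊤ := by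
        refine hcoat.2 _ (lt_of_le_of_ne le_sup_left fun h => hle ?_)
        intro q hq
        obtain ⟨x, hx, rfl⟩ := hq
        have : x ∈ K.comap (QuotientGroup.mk' (Cfsg.pCore p M)) := h ▸ mem_sup_right hx
        exact this
      -- `K'` contains a conjugate of `T`
      obtain ⟨k, hk, c, hc, hTc⟩ : ∃ k : M, k ∈ K.comap (QuotientGroup.mk' (Cfsg.pCore p M)) ∧
          ∃ c : M, (c : G) ∈ D ∧ ∀ t ∈ (T : Subgroup G), (c : G) * t * (c : G)⁻¹ ∈ K' := by
        obtain ⟨P⟩ : Nonempty (Sylow p ↥(K.comap (QuotientGroup.mk' (Cfsg.pCore p M)))) := inferInstance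
        set K₀ := K.comap (QuotientGroup.mk' (Cfsg.pCore p M)) with hK₀
        have hT₁K : ((T : Subgroup G) ⊓ D).subgroupOf M ≤ K₀ := by
          intro x hx
          have hx' : x ∈ Cfsg.pCore p M := by
            refine Cores.le_pCore (Cores.subgroupOf_normal_of_le_normalizer hmin')
              ((T.isPGroup'.to_le inf_le_left).of_equiv
                (subgroupOfEquivOfLe (inf_le_left.trans hTM)).symm) hx
          rw [mem_comap, QuotientGroup.mk'_apply, (QuotientGroup.eq_one_iff x).mpr hx']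
          exact K.one_mem
        have hidx : ¬ p ∣ K₀.index := by
          have h1 : K₀.index = K₀.relIndex ((M ⊓ D).subgroupOf M) := by
            set N₀ := (M ⊓ D).subgroupOf M with hN₀
            have e1 := relIndex_mul_index (inf_le_right : K₀ ⊓ N₀ ≤ N₀)
            have e2 := relIndex_mul_index (inf_le_left : K₀ ⊓ N₀ ≤ K₀)
            have e3 : N₀.index = (K₀ ⊓ N₀).relIndex K₀ := by
              rw [inf_relIndex_left, ← relIndex_top_right, ← htop, relIndex_sup_right]
            rw [e3] at e1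
            rw [inf_relIndex_right] at e1
            refine (Nat.eq_of_mul_eq_mul_right (?_ : 0 < (K₀ ⊓ N₀).relIndex K₀) ?_).symm
            · rw [← e3]; exact Nat.pos_of_ne_zero index_ne_zero_of_finite
            · rw [e1, ← e2, mul_comm]
          have h2 := PReduced.sylow_relIndex_coprime (T.subtype hTM) ((M ⊓ D).subgroupOf M)
          have h3 : K₀.relIndex ((M ⊓ D).subgroupOf M) ∣
              ((T.subtype hTM : Sylow p M) : Subgroup M).relIndex ((M ⊓ D).subgroupOf M) := by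
            rw [← inf_relIndex_right ((T.subtype hTM : Sylow p M) : Subgroup M)]
            exact relIndex_dvd_of_le_left _ (fun x hx => hT₁K ⟨hx.1, hx.2.2⟩)
          rw [h1]
          exact fun hd => (Fact.out : p.Prime).ne_one
            (Nat.dvd_one.mp (h2.gcd_eq_one ▸ Nat.dvd_gcd (hd.trans h3) dvd_rfl))
        have hP' : ¬ p ∣ ((P : Subgroup K₀).map K₀.subtype).index := by
          rw [index_map_subtype]
          exact fun h => ((Fact.out : p.Prime).dvd_mul.mp h).elim P.not_dvd_index hidx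
        obtain ⟨m, hm⟩ := MulAction.exists_smul_eq M (T.subtype hTM)
          ((P.isPGroup'.map K₀.subtype).toSylow hP')
        have hm' : m ∈ ((K₀ ⊔ (M ⊓ D).subgroupOf M : Subgroup M) : Set M) := by rw [htop]; trivial
        rw [Subgroup.mul_normal] at hm'
        obtain ⟨k, hk, c, hc, rfl⟩ := hm'
        refine ⟨k, hk, c, hc.2, fun t ht => ?_⟩
        have h1 : MulAut.conj (k * c) • (⟨t, hTM ht⟩ : M) ∈
            (((k * c) • T.subtype hTM : Sylow p M) : Subgroup M) :=
          smul_mem_pointwise_smul _ _ _ (show (⟨t, hTM ht⟩ : M) ∈ (T.subtype hTM : Subgroup M) from ht)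
        rw [hm] at h1
        obtain ⟨y, -, hy⟩ := h1
        refine ⟨c * ⟨t, hTM ht⟩ * c⁻¹, ?_, rfl⟩
        have h2 : c * ⟨t, hTM ht⟩ * c⁻¹ = k⁻¹ * (MulAut.conj (k * c) • (⟨t, hTM ht⟩ : M)) * k := by
          simp [mul_assoc]
        rw [SetLike.mem_coe, h2, ← hy]
        exact mul_mem (mul_mem (inv_mem hk) y.2) hk
      have hN := hmin (K'.map (MulAut.conj (c : G)⁻¹).toMonoidHom) ?_ ?_ ?_
      · have hK'top : K' = M := by
          refine le_antisymm hK'M fun x hx => ?_
          have h1 : (c : G)⁻¹ * x * (c : G) ∈ K'.map (MulAut.conj (c : G)⁻¹).toMonoidHom := by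
            rw [hN]; exact mul_mem (mul_mem (inv_mem c.2) hx) c.2
          obtain ⟨y, hy, hy'⟩ := h1
          simp only [MulEquiv.coe_toMonoidHom, MulAut.conj_apply, inv_inv] at hy'
          have hyx : y = x := mul_left_cancel (mul_right_cancel hy')
          rwa [← hyx]
        apply hcoat.1
        refine (eq_top_iff' _).mpr fun x => ?_
        obtain ⟨y, hy, hyx⟩ := hK'top.ge x.2
        exact M.subtype_injective hyx ▸ hy
      · exact fun t ht => ⟨_, hTc t ht, by simp [mul_assoc]⟩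
      · rintro _ ⟨y, hy, rfl⟩
        exact mul_mem (mul_mem (inv_mem c.2) (hK'M hy)) (inv_mem (inv_mem c.2))
      · refine hsupp.trans (sup_le (fun x hx => ?_) le_sup_right)
        have h1 : (⟨(c : G) * x * (c : G)⁻¹, mul_mem (mul_mem c.2 hx) (inv_mem c.2)⟩ : M) ∈
            (K.comap (QuotientGroup.mk' (Cfsg.pCore p M)) ⊔ (M ⊓ D).subgroupOf M : Subgroup M) := by
          rw [htop]; trivial
        rw [← SetLike.mem_coe, Subgroup.mul_normal] at h1
        obtain ⟨k', hk', d, hd, hkd⟩ := h1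
        have e : (k' : G) * (d : G) = (c : G) * x * (c : G)⁻¹ := congrArg Subtype.val hkd
        have e' : x = ((c : G)⁻¹ * (k' : G) * (c : G)) * ((c : G)⁻¹ * (d : G) * (c : G)) := by
          calc x = (c : G)⁻¹ * ((c : G) * x * (c : G)⁻¹) * (c : G) := by group
            _ = (c : G)⁻¹ * ((k' : G) * (d : G)) * (c : G) := by rw [e]
            _ = _ := by group
        rw [e']
        refine mul_mem (mem_sup_left ⟨_, ⟨k', hk', rfl⟩, by simp⟩) (mem_sup_right ?_)
        exact D.mul_mem (D.mul_mem (D.inv_mem hc) hd.2) hc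
  -- `L*`
  have hTLd : (T : Subgroup G) ≤ M ⊓ (L ⊔ C) := le_inf hTM (hTL.trans le_sup_left)
  obtain ⟨Ls, hTLs, hLsle, hLs, hLsmin⟩ := exists_minimal_supplement T hTLd hLM
  have hLsC : Ls ≤ L ⊔ C := hLsle.trans inf_le_right
  have hLsn : Ls ≤ normalizer (V : Set G) := hLsC.trans hLd
  have hLsc : Ls ∈ Cfsg.charPSubgroups p G := charP_of_le T hMc hTLs (hLsle.trans inf_le_left)
  refine ⟨M, Ls, hTM, hfrak, hTLs, hLsle.trans inf_le_left, hLsc, ?_, hVM,
    le_antisymm (sup_le hLs le_sup_right) (sup_le hLsC le_sup_right)⟩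
  refine le_antisymm (yOf_le_yOf_of_same_image (hVT.trans hTLs) hLsn hLsC hLs) ?_
  set T₁ := (T : Subgroup G) ⊓ C with hT₁
  set E := (L ⊔ C) ⊓ normalizer (T₁ : Set G) with hE
  have hTn : (T : Subgroup G) ≤ normalizer (T₁ : Set G) :=
    (le_inf Subgroup.le_normalizer ((hTL.trans (yOf_normalized L)).trans centralizer_normalized)).trans
      inf_normalizer_le_normalizer_inf
  have hTE : (T : Subgroup G) ≤ E := le_inf (hTL.trans le_sup_left) hTn
  have hLsE : Ls ≤ E := le_inf hLsC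
    (le_normalizer_of_minimal_supplement T hTLs (hLsn.trans centralizer_normalized) hLs hLsmin)
  have hEn : E ≤ normalizer (V : Set G) := inf_le_left.trans hLd
  have hEc : E ∈ Cfsg.charPSubgroups p G := by
    refine charP_of_parabolic hG T hTE fun h => yOf_ne_bot T hTL hL (le_bot_iff.mp (h ▸ ?_))
    exact le_pCoreOf (hVT.trans hTE) hEn (yOf_isPGroup L)
  refine (yOf_mono T hTLs hLsE hEc).trans ?_
  set W := Cfsg.largestPReducedOf p E with hW
  -- `C_E(V)` centralizes `W`
  have hT₁W : T₁ ≤ centralizer (W : Set G) :=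
    (le_pCoreOf (inf_le_left.trans hTE) inf_le_right (T.isPGroup'.to_le inf_le_left)).trans
      (pCoreOf_le_centralizer_yOf E)
  have hEC : E ⊓ C ≤ centralizer (W : Set G) := by
    intro x hx
    rw [mem_centralizer_iff]
    intro w hw
    refine (PReduced.centralizes_of_fixed (W := W) (X := E ⊓ C) (S := T₁) (T := (T : Subgroup G))
      (yOf_elementary E) (inf_le_left.trans (yOf_normalized E)) (inf_le_inf_right _ hTE) ?_
      T.isPGroup' (hTE.trans (yOf_normalized E)) (hTE.trans (le_normalizer_inf_centralizer hEn)) hTn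
      ?_ w hw (fun s hs => ((mem_centralizer_iff.mp (hT₁W hs)) w hw).symm) x hx).symm
    · haveI : ((E ⊓ C).subgroupOf E).Normal :=
        Cores.subgroupOf_normal_of_le_normalizer (le_normalizer_inf_centralizer hEn)
      have h := PReduced.sylow_relIndex_coprime (T.subtype hTE) ((E ⊓ C).subgroupOf E)
      have e : ((T.subtype hTE : Sylow p E) : Subgroup E).relIndex ((E ⊓ C).subgroupOf E) =
          (T : Subgroup G).relIndex (E ⊓ C) := by
        show ((T : Subgroup G).subgroupOf E).relIndex ((E ⊓ C).subgroupOf E) = _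
        rw [relIndex_subgroupOf inf_le_left]
      have e2 : T₁.relIndex (E ⊓ C) = (T : Subgroup G).relIndex (E ⊓ C) := by
        have h3 : (T : Subgroup G) ⊓ (E ⊓ C) = T₁ := by rw [← inf_assoc, inf_of_le_left hTE]
        rw [← h3, inf_relIndex_right]
      rwa [e2, ← e]
    · intro w hw _ hwT y hy
      have hwV : w ∈ V := omega_center_le_yOf T hTL hL (PReduced.mem_omegaOne_center.mpr
        ⟨yOf_le_sylow T hTE hw, hwT, (yOf_elementary E).2 w hw⟩)
      exact (mem_centralizer_iff.mp hy.2 w hwV).symm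
  set L₀ := L ⊓ normalizer (T₁ : Set G) with hL₀
  have hTL₀ : (T : Subgroup G) ≤ L₀ := le_inf hTL hTn
  have hL₀E : L₀ ≤ E := inf_le_inf_right _ le_sup_left
  have hVW : V ≤ W := by
    refine yOf_le_yOf_of_same_image (hVT.trans hTE) hEn inf_le_left ?_
    exact hLs.trans (sup_le_sup_right hLsE _)
  refine le_trans ?_ (yOf_mono T hTL₀ inf_le_left hL)
  refine le_yOf ((yOf_le_sylow T hTE).trans hTL₀) (hL₀E.trans (yOf_normalized E)) (yOf_elementary E)
    fun N hN hL₀N hmod => ?_
  have hNC : N ≤ C := by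
    set C₀ := L ⊓ C with hC₀
    set K := N ⊔ C₀ with hK
    have hNL : N ≤ L := hN.trans inf_le_left
    have hC₀n : L ≤ normalizer (C₀ : Set G) := le_normalizer_inf_centralizer (yOf_normalized L)
    have hmodK : PReduced.pMod p C K := by
      intro x hx
      obtain ⟨n, hn, c, hc, rfl⟩ := (mem_sup_mul (hNL.trans hC₀n)).mp hx
      obtain ⟨k, hk⟩ := hmod n hn
      obtain ⟨c', hc', h'⟩ := pow_mul_mem (hC₀n (hNL hn)) hc (p ^ k)
      exact ⟨k, h' ▸ mul_mem (centralizer_le (SetLike.coe_subset_coe.mpr hVW) hk) hc'.2⟩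
    -- `L` normalizes `K` by the Frattini argument
    have hLK : L ≤ normalizer (K : Set G) := by
      intro l hl
      haveI : (C₀.subgroupOf L).Normal := Cores.subgroupOf_normal_of_le_normalizer hC₀n
      obtain ⟨a, ha, c, hc, hac⟩ :=
        PReduced.frattini_sylow_inf_mul (T.subtype hTL) (C₀.subgroupOf L) ⟨l, hl⟩
      have e : l = (a : G) * (c : G) := congrArg Subtype.val hac
      have haN : (a : G) ∈ L₀ := by
        refine mem_inf.mpr ⟨a.2, ?_⟩
        rw [mem_normalizer_iff]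
        intro n
        have hiff := mem_normalizer_iff.mp ha
        constructor
        · intro hn
          have := (hiff ⟨n, hTL hn.1⟩).mp ⟨hn.1, hTL hn.1, hn.2⟩
          exact ⟨this.1, this.2.2⟩
        · intro hn
          have hnL : n ∈ L := by
            have := L.mul_mem (L.mul_mem (L.inv_mem a.2) (hTL hn.1)) a.2
            simpa [mul_assoc] using this
          have := (hiff ⟨n, hnL⟩).mpr ⟨hn.1, L.mul_mem (L.mul_mem a.2 hnL) (L.inv_mem a.2), hn.2⟩
          exact ⟨this.1, this.2.2⟩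
      rw [e]
      refine mul_mem ?_ ((le_sup_right.trans Subgroup.le_normalizer) hc)
      exact normalizer_inf_normalizer_le_normalizer_sup N C₀
        (mem_inf.mpr ⟨hL₀N haN, hC₀n a.2⟩)
    exact le_sup_left.trans (yOf_reduced (sup_le hNL inf_le_left) hLK hmodK)
  exact (le_inf (hN.trans hL₀E) hNC).trans hEC

end Cfsg.Agent.LargeSub
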