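import Cfsg.Agent.Lib.LargeSub.FrakH
import Cfsg.Agent.Lib.Involution.BaerSuzuki

/-!
# The `L`-lemma

`L` minimal in `H ∈ ℌ(O_p(M))` with `Y ≤ L` and `Y ≰ O_p(L)` (structure `MinL`); writing
`A = O_p(H)`, `Z₀ = Y ∩ A`: `exists_gen`, `exists_mul_mem_centralizer`, `mem_normalizer_of_commute`,
`le_normalizer_of_lt`, `gen_eq`, `isMinimalOver`, `charP`, `not_commutator_le`, `normalClosure_inf_le`.
-/

set_option autoImplicit false

namespace Cfsg.Agent.LargeSub

open Subgroup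
open scoped Pointwise commutatorElement

variable {G : Type*} [Group G]

/-- The elements normalizing `B` whose commutators with all `x ∈ X` lie in `B`. -/
def intoSub (X B : Subgroup G) : Subgroup G where
  carrier := {k | k ∈ normalizer (B : Set G) ∧ ∀ x ∈ X, k * x * k⁻¹ * x⁻¹ ∈ B}
  one_mem' := ⟨one_mem _, fun x _ => by simp⟩
  mul_mem' := by
    rintro k l ⟨h1, h2⟩ ⟨g1, g2⟩
    refine ⟨mul_mem h1 g1, fun x hx => ?_⟩
    have := B.mul_mem ((mem_normalizer_iff.mp h1 _).mp (g2 x hx)) (h2 x hx)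
    convert this using 1; group
  inv_mem' := by
    rintro k ⟨h1, h2⟩
    refine ⟨inv_mem h1, fun x hx => ?_⟩
    have := (mem_normalizer_iff''.mp h1 _).mp (B.inv_mem (h2 x hx))
    convert this using 1; group

/-- Conjugate subgroup. -/
abbrev cnj (g : G) (Y : Subgroup G) : Subgroup G := Y.map (MulAut.conj g).toMonoidHom

theorem mem_cnj {g y : G} {Y : Subgroup G} (hy : y ∈ Y) : g * y * g⁻¹ ∈ cnj g Y := ⟨y, hy, rfl⟩

variable [Finite G] {p : ℕ} [Fact p.Prime]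

/-- A minimal subgroup of `H` containing `Y_M` outside its `O_p`. -/
structure MinL (p : ℕ) (S : Sylow p G) (M H L : Subgroup G) : Prop where
  hyp : Hyp p S M
  frakH : Cfsg.IsInFrakH p M H
  le : L ≤ H
  yOf_le : Cfsg.largestPReducedOf p M ≤ L
  not_le : ¬ Cfsg.largestPReducedOf p M ≤ Cfsg.pCoreOf p L
  minimal : ∀ L' : Subgroup G, L' ≤ L → Cfsg.largestPReducedOf p M ≤ L' →
    ¬ Cfsg.largestPReducedOf p M ≤ Cfsg.pCoreOf p L' → L' = L

namespace MinL

variable {S : Sylow p G} {M H L : Subgroup G}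

local notation "𝐘" => Cfsg.largestPReducedOf p M
local notation "𝐀" => Cfsg.pCoreOf p H
local notation "𝐑" => Cfsg.pCoreOf p M

theorem yOf_le_pCoreOf_of_lt (m : MinL p S M H L) {K : Subgroup G} (hYK : 𝐘 ≤ K) (hKL : K < L) :
    𝐘 ≤ Cfsg.pCoreOf p K := by
  by_contra hn
  exact hKL.ne (m.minimal K hKL.le hYK hn)

theorem core_normalizes (m : MinL p S M H L) : 𝐀 ≤ normalizer (𝐘 : Set G) :=
  (m.hyp.pCoreOf_le_normalizer m.frakH.2.1).trans m.hyp.normalizer_pCoreOf_le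

theorem sup_pCoreOf_eq (m : MinL p S M H L) : L ⊔ 𝐑 = H := by
  by_contra hne
  have hlt : L ⊔ 𝐑 < H := lt_of_le_of_ne (sup_le m.le m.frakH.2.1) hne
  exact m.not_le ((le_inf (m.frakH.2.2.2 _ le_sup_right hlt) m.yOf_le).trans (pCoreOf_inf_le le_sup_left))

/-- Some two conjugates of `Y` generate `L`. -/
theorem exists_gen (m : MinL p S M H L) : ∃ g ∈ L, 𝐘 ⊔ cnj g 𝐘 = L := by
  set X := (𝐘).subgroupOf L with hX
  by_contra hall
  push Not at hall
  have hp : ∀ g : L, IsPGroup p ↥(X ⊔ X.map (MulAut.conj g).toMonoidHom) := by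
    intro g
    set K := 𝐘 ⊔ cnj (g : G) 𝐘 with hK
    have hcL : cnj (g : G) 𝐘 ≤ L := by
      rintro _ ⟨y, hy, rfl⟩
      exact L.mul_mem (L.mul_mem g.2 (m.yOf_le hy)) (L.inv_mem g.2)
    have hKL : K < L := lt_of_le_of_ne (sup_le m.yOf_le hcL) (hall g g.2)
    have hKp : IsPGroup p K := by
      have h1 : IsPGroup p ↥(Cfsg.pCoreOf p K ⊔ cnj (g : G) 𝐘 : Subgroup G) :=
        IsPGroup.to_sup_of_normal_left' (isPGroup_pCoreOf K) ((yOf_isPGroup M).map _)
          ((le_sup_right : cnj (g : G) 𝐘 ≤ K).trans (self_le_normalizer_pCoreOf K))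
      exact h1.to_le (sup_le ((m.yOf_le_pCoreOf_of_lt le_sup_left hKL).trans le_sup_left) le_sup_right)
    have hle : X ⊔ X.map (MulAut.conj g).toMonoidHom ≤ K.subgroupOf L := by
      refine sup_le (fun x hx => mem_subgroupOf.mpr (mem_sup_left hx)) ?_
      rintro _ ⟨x, hx, rfl⟩
      exact mem_subgroupOf.mpr (mem_sup_right (mem_cnj (g := (g : G)) hx))
    exact (hKp.comap_subtype (K := L)).to_le hle
  refine m.not_le fun y hy => ⟨⟨y, m.yOf_le hy⟩, ?_, rfl⟩
  exact Cores.le_pCore normalClosure_normal (Involution.baer_suzuki X hp)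
    (subset_normalClosure (mem_subgroupOf.mpr hy))

theorem cnj_le (m : MinL p S M H L) {g : G} (hg : g ∈ L) : cnj g 𝐘 ≤ L := by
  rintro _ ⟨y, hy, rfl⟩
  exact L.mul_mem (L.mul_mem hg (m.yOf_le hy)) (L.inv_mem hg)

theorem core_normalized (m : MinL p S M H L) : L ≤ normalizer (𝐀 : Set G) :=
  m.le.trans (self_le_normalizer_pCoreOf H)

theorem core_normalizes_cnj (m : MinL p S M H L) {g : G} (hg : g ∈ L) :
    𝐀 ≤ normalizer (cnj g 𝐘 : Set G) := by
  intro a ha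
  rw [← map_normalizer_eq_of_bijective _ (MulAut.conj g).bijective]
  exact ⟨g⁻¹ * a * g, m.core_normalizes ((mem_normalizer_iff''.mp (m.core_normalized hg) a).mp ha),
    by simp [mul_assoc]⟩

theorem cnj_commute (_m : MinL p S M H L) {g x y : G} (hx : x ∈ cnj g 𝐘) (hy : y ∈ cnj g 𝐘) :
    x * y = y * x := by
  obtain ⟨a, ha, rfl⟩ := hx
  obtain ⟨b, hb, rfl⟩ := hy
  have e := PReduced.commute_of_isMulCommutative (yOf_elementary M).1 ha hb
  simp only [MulEquiv.coe_toMonoidHom]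
  rw [← map_mul, e, map_mul]

theorem commutator_mem_cnj (m : MinL p S M H L) {g x a : G} (hg : g ∈ L) (hx : x ∈ cnj g 𝐘)
    (ha : a ∈ 𝐀) : x * a * x⁻¹ * a⁻¹ ∈ cnj g 𝐘 ⊓ 𝐀 := by
  refine mem_inf.mpr ⟨?_, mul_mem ((mem_normalizer_iff.mp (m.core_normalized (m.cnj_le hg hx)) a).mp ha)
    (inv_mem ha)⟩
  have := mul_mem hx ((mem_normalizer_iff.mp (m.core_normalizes_cnj hg ha) x⁻¹).mp (inv_mem hx))
  convert this using 1; group

theorem commutator_mem (m : MinL p S M H L) {x a : G} (hx : x ∈ 𝐘) (ha : a ∈ 𝐀) :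
    x * a * x⁻¹ * a⁻¹ ∈ 𝐘 ⊓ 𝐀 := by
  refine mem_inf.mpr ⟨?_, mul_mem ((mem_normalizer_iff.mp (m.core_normalized (m.yOf_le hx)) a).mp ha)
    (inv_mem ha)⟩
  have := mul_mem hx ((mem_normalizer_iff.mp (m.core_normalizes ha) x⁻¹).mp (inv_mem hx))
  convert this using 1; group

/-- `W = (Y^g ∩ A)(Y ∩ A)`. -/
abbrev wSub (p : ℕ) (M H : Subgroup G) (g : G) : Subgroup G :=
  (cnj g (Cfsg.largestPReducedOf p M) ⊓ Cfsg.pCoreOf p H) ⊔
    (Cfsg.largestPReducedOf p M ⊓ Cfsg.pCoreOf p H)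

theorem wSub_le_core (_m : MinL p S M H L) (g : G) : wSub p M H g ≤ 𝐀 :=
  sup_le inf_le_right inf_le_right

theorem le_stab_wSub (m : MinL p S M H L) {g : G} (hg : g ∈ L) (hgen : 𝐘 ⊔ cnj g 𝐘 = L) :
    L ≤ stab 𝐀 (wSub p M H g) := by
  have key : ∀ X : Subgroup G, X ≤ L →
      (∀ x ∈ X, ∀ a ∈ 𝐀, x * a * x⁻¹ * a⁻¹ ∈ wSub p M H g) → X ≤ stab 𝐀 (wSub p M H g) := by
    intro X hXL hX x hx
    refine mem_stab.mpr ⟨m.core_normalized (hXL hx), Coprime.mem_normalizer_of_forall fun w hw => ?_,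
      hX x hx⟩
    have := mul_mem (hX x hx w (m.wSub_le_core g hw)) hw
    simpa using this
  refine hgen.ge.trans (sup_le (key _ m.yOf_le fun x hx a ha => mem_sup_right (m.commutator_mem hx ha))
    (key _ (m.cnj_le hg) fun x hx a ha => mem_sup_left (m.commutator_mem_cnj hg hx ha)))

theorem mem_centralizer_of_gen (_m : MinL p S M H L) {g x : G} (hgen : 𝐘 ⊔ cnj g 𝐘 = L)
    (h1 : x ∈ centralizer (𝐘 : Set G)) (h2 : x ∈ centralizer (cnj g 𝐘 : Set G)) :
    x ∈ centralizer (L : Set G) := by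
  have hle : L ≤ centralizer ({x} : Set G) := hgen.ge.trans (sup_le
    (fun y hy => mem_centralizer_singleton_iff.mpr (mem_centralizer_iff.mp h1 y hy))
    (fun y hy => mem_centralizer_singleton_iff.mpr (mem_centralizer_iff.mp h2 y hy)))
  exact mem_centralizer_iff.mpr fun l hl => mem_centralizer_singleton_iff.mp (hle hl)

theorem mem_wSub_iff (m : MinL p S M H L) {g : G} (hg : g ∈ L) {w : G} :
    w ∈ wSub p M H g ↔ ∃ z' ∈ cnj g 𝐘 ⊓ 𝐀, ∃ z ∈ 𝐘 ⊓ 𝐀, z' * z = w := by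
  refine mem_sup_mul ?_
  intro x hx
  exact inf_normalizer_le_normalizer_inf
    (mem_inf.mpr ⟨m.core_normalizes hx.2, Subgroup.le_normalizer hx.2⟩)

/-- `W ∩ C(Y) = Y ∩ A`. -/
theorem wSub_inf_centralizer (m : MinL p S M H L) {g : G} (hg : g ∈ L) (hgen : 𝐘 ⊔ cnj g 𝐘 = L)
    {w : G} (hw : w ∈ wSub p M H g) (hwc : w ∈ centralizer (𝐘 : Set G)) : w ∈ 𝐘 ⊓ 𝐀 := by
  obtain ⟨z', hz', z, hz, rfl⟩ := (m.mem_wSub_iff hg).mp hw
  have hzc : z ∈ centralizer (𝐘 : Set G) :=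
    PReduced.le_centralizer_of_isMulCommutative (yOf_elementary M).1 hz.1
  have hz'c : z' ∈ centralizer (𝐘 : Set G) := by simpa using mul_mem hwc (inv_mem hzc)
  have hL : z' ∈ centralizer (L : Set G) := m.mem_centralizer_of_gen hgen hz'c
    (mem_centralizer_iff.mpr fun x hx => m.cnj_commute hx hz'.1)
  obtain ⟨y, hy, hyz⟩ := hz'.1
  have e : g * z' = z' * g := mem_centralizer_iff.mp hL g hg
  have hy' : y = z' := by
    have h1 : g * y * g⁻¹ = z' := hyz
    calc y = g⁻¹ * (g * y * g⁻¹) * g := by group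
      _ = g⁻¹ * (z' * g) := by rw [h1, mul_assoc]
      _ = z' := by rw [← e, inv_mul_cancel_left]
  exact mul_mem (mem_inf.mpr ⟨hy' ▸ hy, hz'.2⟩) hz

/-- `C_A(Y) = (Y ∩ A) C_A(L)`. -/
theorem exists_mul_mem_centralizer (m : MinL p S M H L) {a : G}
    (ha : a ∈ 𝐀 ⊓ centralizer (𝐘 : Set G)) :
    ∃ z ∈ 𝐘 ⊓ 𝐀, z * a ∈ centralizer (L : Set G) := by
  obtain ⟨g, hg, hgen⟩ := m.exists_gen
  obtain ⟨z', hz', z, hz, hw⟩ :=
    (m.mem_wSub_iff hg).mp ((m.le_stab_wSub hg hgen hg).2.2 a ha.1)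
  refine ⟨z, hz, m.mem_centralizer_of_gen hgen
    (mul_mem (PReduced.le_centralizer_of_isMulCommutative (yOf_elementary M).1 hz.1) ha.2)
    (mem_centralizer_iff.mpr ?_)⟩
  have he : z * a = z'⁻¹ * (g * a * g⁻¹) := by
    rw [eq_inv_mul_iff_mul_eq, ← mul_assoc, hw]; group
  have h1 : g * a * g⁻¹ ∈ centralizer (cnj g 𝐘 : Set G) := mem_centralizer_iff.mpr (by
    rintro _ ⟨y, hy, rfl⟩
    simp only [MulEquiv.coe_toMonoidHom, MulAut.conj_apply]
    calc g * y * g⁻¹ * (g * a * g⁻¹) = g * (y * a) * g⁻¹ := by group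
      _ = g * (a * y) * g⁻¹ := by rw [mem_centralizer_iff.mp ha.2 y hy]
      _ = _ := by group)
  have h2 : z'⁻¹ ∈ centralizer (cnj g 𝐘 : Set G) :=
    mem_centralizer_iff.mpr fun x hx => m.cnj_commute hx (inv_mem hz'.1)
  intro x hx
  rw [he]
  exact mem_centralizer_iff.mp (mul_mem h2 h1) x hx

/-- A conjugate of `Y` under `L` that centralizes `Y` equals `Y`. -/
theorem mem_normalizer_of_commute (m : MinL p S M H L) {v : G} (hv : v ∈ L)
    (hc : cnj v 𝐘 ≤ centralizer (𝐘 : Set G)) : v ∈ normalizer (𝐘 : Set G) := by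
  obtain ⟨g, hg, hgen⟩ := m.exists_gen
  set Y := Cfsg.largestPReducedOf p M with hY
  set A := Cfsg.pCoreOf p H with hA
  set R := Cfsg.pCoreOf p M with hR
  set Z₀ := Y ⊓ A with hZ₀
  set A₁ := A ⊓ centralizer (Y : Set G) with hA₁
  set Yv := cnj v Y with hYv
  have hRH : R ≤ H := m.frakH.2.1
  have hvA : v ∈ normalizer (A : Set G) := m.core_normalized hv
  have hYc : Y ≤ centralizer (Y : Set G) :=
    PReduced.le_centralizer_of_isMulCommutative (yOf_elementary M).1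
  have hRC : R ≤ centralizer (Y : Set G) := pCoreOf_le_centralizer_yOf M
  have hZA₁ : Z₀ ≤ A₁ := fun z hz => mem_inf.mpr ⟨hz.2, hYc hz.1⟩
  -- `v` fixes `Z₀`
  have hvZ : v ∈ normalizer (Z₀ : Set G) := by
    refine Coprime.mem_normalizer_of_forall fun z hz => ?_
    exact m.wSub_inf_centralizer hg hgen
      ((mem_normalizer_iff.mp (m.le_stab_wSub hg hgen hv).2.1 z).mp (mem_sup_right hz))
      (hc (mem_cnj hz.1))
  have hvst : v ∈ stab A₁ Z₀ := by
    have h3 : ∀ a ∈ A₁, v * a * v⁻¹ * a⁻¹ ∈ Z₀ := by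
      intro a ha
      obtain ⟨z, hz, he⟩ := m.exists_mul_mem_centralizer ha
      have e : v * (z * a) = z * a * v := mem_centralizer_iff.mp he v hv
      have h1 := mul_mem ((mem_normalizer_iff.mp hvZ z⁻¹).mp (inv_mem hz)) hz
      convert h1 using 1
      calc v * a * v⁻¹ * a⁻¹ = v * z⁻¹ * (v⁻¹ * (v * (z * a))) * v⁻¹ * a⁻¹ := by group
        _ = v * z⁻¹ * (v⁻¹ * (z * a * v)) * v⁻¹ * a⁻¹ := by rw [e]
        _ = _ := by group
    refine mem_stab.mpr ⟨Coprime.mem_normalizer_of_forall fun a ha => ?_, hvZ, h3⟩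
    simpa using mul_mem (hZA₁ (h3 a ha)) ha
  have hA₁c : ∀ a ∈ A₁, ∀ x ∈ Yv, a * x = x * a := by
    intro a ha x hx
    obtain ⟨z, hz, he⟩ := m.exists_mul_mem_centralizer ha
    have hz' : z⁻¹ ∈ Yv := by
      have := mem_cnj (g := v) (((mem_normalizer_iff''.mp hvZ _).mp (inv_mem hz)).1)
      convert this using 1; group
    have e1 : z⁻¹ * x = x * z⁻¹ := m.cnj_commute hz' hx
    have e2 : x * (z * a) = z * a * x := mem_centralizer_iff.mp he x (m.cnj_le hv hx)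
    calc a * x = z⁻¹ * (z * a * x) := by group
      _ = z⁻¹ * (x * (z * a)) := by rw [e2]
      _ = z⁻¹ * x * (z * a) := by rw [mul_assoc]
      _ = x * z⁻¹ * (z * a) := by rw [e1]
      _ = x * a := by group
  have hHA : H ≤ normalizer (A : Set G) := self_le_normalizer_pCoreOf H
  have hRA₁ : R ≤ normalizer (A₁ : Set G) :=
    (le_inf (hRH.trans hHA) (((pCoreOf_le M).trans (yOf_normalized M)).trans centralizer_normalized)).trans
      inf_normalizer_le_normalizer_inf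
  have hRA : ∀ r ∈ R, ∀ a ∈ A, r * a * r⁻¹ * a⁻¹ ∈ A₁ := by
    intro r hr a ha
    refine mem_inf.mpr ⟨mul_mem ((mem_normalizer_iff.mp (hRH.trans hHA hr) a).mp ha) (inv_mem ha),
      hRC ?_⟩
    have := mul_mem hr ((mem_normalizer_iff.mp
      (m.hyp.pCoreOf_le_normalizer m.frakH.2.1 ha) r⁻¹).mp (inv_mem hr))
    convert this using 1; group
  -- three subgroups
  have hRY : ∀ r ∈ R, ∀ x ∈ Yv, r * x * r⁻¹ * x⁻¹ ∈ A₁ := by
    intro r hr x hx
    have hxH : x ∈ H := m.le (m.cnj_le hv hx)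
    have hcomm : ∀ a ∈ A, Commute a (r * x * r⁻¹ * x⁻¹) := by
      intro a ha
      set b := x⁻¹ * a * x with hb
      have hbA : b ∈ A := (mem_normalizer_iff''.mp (hHA hxH) a).mp ha
      have hc₁ : r⁻¹ * b * r * b⁻¹ ∈ A₁ := by
        simpa using hRA r⁻¹ (inv_mem hr) b hbA
      set c := r⁻¹ * b * r * b⁻¹ with hcdef
      have hz : x * b * x⁻¹ * b⁻¹ ∈ Z₀ := by
        obtain ⟨y, hy, rfl⟩ := hx
        have h1 := (mem_normalizer_iff.mp hvZ _).mp
          (m.commutator_mem hy ((mem_normalizer_iff''.mp hvA b).mp hbA))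
        convert h1 using 1
        simp only [MulEquiv.coe_toMonoidHom, MulAut.conj_apply]
        group
      set z := x * b * x⁻¹ * b⁻¹ with hzdef
      have hxc : x * c = c * x := (hA₁c c hc₁ x hx).symm
      have hzc : z * c = c * z := by
        have h1 : c ∈ centralizer (Y : Set G) := hc₁.2
        exact mem_centralizer_iff.mp h1 z hz.1
      have hrz : z * r = r * z := (mem_centralizer_iff.mp (hRC hr) z hz.1)
      have e : r * x * r⁻¹ * b * (r * x⁻¹ * r⁻¹) = x * b * x⁻¹ := by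
        calc r * x * r⁻¹ * b * (r * x⁻¹ * r⁻¹) = r * (x * c) * b * x⁻¹ * r⁻¹ := by
              rw [hcdef]; group
          _ = r * c * (x * b * x⁻¹) * r⁻¹ := by rw [hxc]; group
          _ = r * c * (z * b) * r⁻¹ := by rw [hzdef]; group
          _ = r * (c * z) * b * r⁻¹ := by group
          _ = (r * z) * (c * b) * r⁻¹ := by rw [← hzc]; group
          _ = (z * r) * (c * b) * r⁻¹ := by rw [hrz]
          _ = z * b := by rw [hcdef]; group
          _ = _ := by rw [hzdef]; group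
      have ha' : a = x * b * x⁻¹ := by rw [hb]; group
      show a * (r * x * r⁻¹ * x⁻¹) = r * x * r⁻¹ * x⁻¹ * a
      calc a * (r * x * r⁻¹ * x⁻¹) = (r * x * r⁻¹ * b * (r * x⁻¹ * r⁻¹)) * (r * x * r⁻¹ * x⁻¹) := by
            rw [e, ← ha']
        _ = r * x * r⁻¹ * x⁻¹ * (x * b * x⁻¹) := by group
        _ = _ := by rw [← ha']
    have hdH : r * x * r⁻¹ * x⁻¹ ∈ H :=
      mul_mem (mul_mem (mul_mem (hRH hr) hxH) (inv_mem (hRH hr))) (inv_mem hxH)
    refine mem_inf.mpr ⟨(centralizer_pCore_iff.mp m.frakH.1)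
      (mem_inf.mpr ⟨hdH, mem_centralizer_iff.mpr fun a ha => hcomm a ha⟩), ?_⟩
    exact mul_mem ((mem_normalizer_iff.mp ((((pCoreOf_le M).trans (yOf_normalized M)).trans
      centralizer_normalized) hr) x).mp (hc hx)) (inv_mem (hc hx))
  -- the group generated by `R` and `R^v`
  set Rv := cnj v R with hRv
  set X₁ := A₁ ⊔ Yv with hX₁
  set K := R ⊔ Rv with hK
  have hKH : K ≤ H := sup_le hRH (by
    rintro _ ⟨r, hr, rfl⟩
    exact mul_mem (mul_mem (m.le hv) (hRH hr)) (inv_mem (m.le hv)))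
  have hKZ : K ≤ centralizer (Z₀ : Set G) := by
    refine sup_le (hRC.trans (centralizer_le (SetLike.coe_subset_coe.mpr inf_le_left))) ?_
    rintro _ ⟨r, hr, rfl⟩
    refine mem_centralizer_iff.mpr fun z hz => ?_
    have e := mem_centralizer_iff.mp (hRC hr) _ ((mem_normalizer_iff''.mp hvZ z).mp hz).1
    simp only [MulEquiv.coe_toMonoidHom, MulAut.conj_apply]
    calc z * (v * r * v⁻¹) = v * (v⁻¹ * z * v * r) * v⁻¹ := by group
      _ = v * (r * (v⁻¹ * z * v)) * v⁻¹ := by rw [e]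
      _ = _ := by group
  have hRst : R ≤ normalizer (stab A₁ Z₀ : Set G) := fun r hr =>
    Coprime.mem_normalizer_of_forall fun k hk => conj_mem_stab (hRA₁ hr)
      (centralizer_le_normalizer _ (hKZ (mem_sup_left hr))) hk
  have hKst : K ≤ R ⊔ stab A₁ Z₀ := by
    refine sup_le le_sup_left ?_
    rintro _ ⟨r, hr, rfl⟩
    have h1 : v * (r * v⁻¹ * r⁻¹) ∈ stab A₁ Z₀ :=
      mul_mem hvst ((mem_normalizer_iff.mp (hRst hr) _).mp (inv_mem hvst))
    have := mul_mem (mem_sup_right (S := R) h1) (mem_sup_left (T := stab A₁ Z₀) hr)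
    convert this using 1
    simp only [MulEquiv.coe_toMonoidHom, MulAut.conj_apply]; group
  have hKinto : K ≤ intoSub Yv A₁ := by
    refine sup_le (fun r hr => ⟨hRA₁ hr, hRY r hr⟩) ?_
    rintro _ ⟨r, hr, rfl⟩
    refine ⟨mul_mem (mul_mem hvst.1 (hRA₁ hr)) (inv_mem hvst.1), ?_⟩
    rintro _ ⟨y, hy, rfl⟩
    simp only [MulEquiv.coe_toMonoidHom, MulAut.conj_apply]
    have e := mem_centralizer_iff.mp (hRC hr) y hy
    have : v * r * v⁻¹ * (v * y * v⁻¹) * (v * r * v⁻¹)⁻¹ * (v * y * v⁻¹)⁻¹ = 1 := by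
      calc v * r * v⁻¹ * (v * y * v⁻¹) * (v * r * v⁻¹)⁻¹ * (v * y * v⁻¹)⁻¹
          = v * (r * y) * r⁻¹ * y⁻¹ * v⁻¹ := by group
        _ = v * (y * r) * r⁻¹ * y⁻¹ * v⁻¹ := by rw [e]
        _ = 1 := by group
    rw [this]; exact one_mem _
  have hKX : K ≤ normalizer (X₁ : Set G) := fun k hk => Coprime.mem_normalizer_of_forall fun x hx => by
    have hle : X₁ ≤ X₁.comap (MulAut.conj k).toMonoidHom := by
      refine sup_le (fun a ha => mem_sup_left ((mem_normalizer_iff.mp (hKinto hk).1 a).mp ha))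
        fun y hy => ?_
      show k * y * k⁻¹ ∈ X₁
      have := mul_mem (mem_sup_left (T := Yv) ((hKinto hk).2 y hy)) (mem_sup_right (S := A₁) hy)
      simpa using this
    exact hle hx
  set C₂ := K ⊓ centralizer (X₁ : Set G) with hC₂
  have hKC₂ : K ≤ normalizer (C₂ : Set G) := le_normalizer_inf_centralizer hKX
  have hZp : IsPGroup p Z₀ := (yOf_isPGroup M).to_le inf_le_left
  have hA₁p : IsPGroup p A₁ := (isPGroup_pCoreOf H).to_le inf_le_left
  have hres : pRes p K ≤ C₂ := pRes_le_of_forall fun k hk hkp => by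
    have hst : k ∈ stab A₁ Z₀ := mem_of_mem_sup_pGroup (isPGroup_pCoreOf M) hRst (hKst hk) hkp
    have hkA : ∀ a ∈ A₁, Commute a k := fun a ha => commute_of_mem_stab hkp hZp hst
      (fun z hz => (mem_centralizer_iff.mp (hKZ hk) z hz).symm) ha
    have hkY : ∀ x ∈ Yv, Commute x k := fun x hx => by
      have h1 : x * k * x⁻¹ * k⁻¹ ∈ A₁ := by
        have := inv_mem ((hKinto hk).2 x hx)
        convert this using 1; group
      obtain ⟨n, hn⟩ := hA₁p ⟨_, h1⟩
      exact CharP.eq_one_of_commute hkp ⟨n, by simpa using congrArg Subtype.val hn⟩ (hkA _ h1)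
    have hle : X₁ ≤ centralizer ({k} : Set G) := sup_le
      (fun a ha => mem_centralizer_singleton_iff.mpr (hkA a ha).eq)
      (fun x hx => mem_centralizer_singleton_iff.mpr (hkY x hx).eq)
    exact mem_inf.mpr ⟨hk, mem_centralizer_iff.mpr fun x hx =>
      mem_centralizer_singleton_iff.mp (hle hx)⟩
  have hRK : R ≤ K := le_sup_left
  have hRvK : Rv ≤ K := le_sup_right
  obtain ⟨T, hT⟩ := ((isPGroup_pCoreOf M).of_equiv (subgroupOfEquivOfLe hRK).symm).exists_le_sylow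
  obtain ⟨T', hT'⟩ := (((isPGroup_pCoreOf M).map _).of_equiv
    (subgroupOfEquivOfLe hRvK).symm).exists_le_sylow
  obtain ⟨k, hk⟩ := MulAction.exists_smul_eq K T' T
  set TK := (T : Subgroup K).map K.subtype with hTK
  have hTKK : TK ≤ K := map_subtype_le _
  have hKsup : K ≤ TK ⊔ C₂ :=
    (pRes_sup_sylow T).ge.trans (sup_le (hres.trans le_sup_right) le_sup_left)
  obtain ⟨t, ht, c, hc₂, htc⟩ := (mem_sup_mul (hTKK.trans hKC₂)).mp (hKsup k.2)
  have hcv : c * v ∈ normalizer (R : Set G) := by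
    refine m.hyp.mem_normalizer_of_conj_le (T.isPGroup'.map K.subtype)
      (fun r hr => ⟨⟨r, hRK hr⟩, hT (mem_subgroupOf.mpr hr), rfl⟩) fun r hr => ?_
    have h1 := Subgroup.smul_mem_pointwise_smul _ (MulAut.conj k) _
      (hT' (mem_subgroupOf.mpr (mem_cnj hr) : (⟨v * r * v⁻¹, hRvK (mem_cnj hr)⟩ : K) ∈ Rv.subgroupOf K))
    have h2 : MulAut.conj k • (⟨v * r * v⁻¹, hRvK (mem_cnj hr)⟩ : K) ∈
      ((k • T' : Sylow p K) : Subgroup K) := h1
    rw [hk] at h2
    have h3 : (k : G) * (v * r * v⁻¹) * (k : G)⁻¹ ∈ TK := ⟨_, h2, rfl⟩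
    rw [← htc] at h3
    have h4 := mul_mem (mul_mem (inv_mem ht) h3) ht
    convert h4 using 1; group
  refine Coprime.mem_normalizer_of_forall fun y hy => ?_
  have h1 := (mem_normalizer_iff.mp (m.hyp.normalizer_pCoreOf_le hcv) y).mp hy
  have e := mem_centralizer_iff.mp hc₂.2 _ (mem_sup_right (S := A₁) (mem_cnj (g := v) hy))
  convert h1 using 1
  calc v * y * v⁻¹ = (v * y * v⁻¹ * c) * c⁻¹ := by group
    _ = (c * (v * y * v⁻¹)) * c⁻¹ := by rw [e]
    _ = _ := by group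

/-- Conjugates of `Y` normalizing each other are equal. -/
theorem mem_normalizer_of_normalizing (m : MinL p S M H L) {v : G} (hv : v ∈ L)
    (h1 : ∀ y ∈ 𝐘, v * y * v⁻¹ ∈ normalizer (𝐘 : Set G))
    (h2 : ∀ y ∈ 𝐘, v⁻¹ * y * v ∈ normalizer (𝐘 : Set G)) : v ∈ normalizer (𝐘 : Set G) :=
  m.mem_normalizer_of_commute hv (by
    rintro _ ⟨y, hy, rfl⟩
    exact m.hyp.mem_centralizer_of_normalizing h1 h2 hy)

/-- Proper subgroups of `L` containing `Y` normalize it. -/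
theorem le_normalizer_of_lt (m : MinL p S M H L) {K : Subgroup G} (hYK : 𝐘 ≤ K) (hKL : K < L) :
    K ≤ normalizer (𝐘 : Set G) := by
  set U := Cfsg.pCoreOf p K with hU
  have hYU : 𝐘 ≤ U := m.yOf_le_pCoreOf_of_lt hYK hKL
  have hUL : U ≤ L := (pCoreOf_le K).trans hKL.le
  have hUN : U ≤ normalizer (𝐘 : Set G) := by
    by_contra hne
    set U₀ := U ⊓ normalizer (𝐘 : Set G) with hU₀
    haveI := (isPGroup_pCoreOf (p := p) K).isNilpotent
    have hlt : U₀.subgroupOf U < ⊤ := by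
      rw [lt_top_iff_ne_top, Ne, subgroupOf_eq_top]
      exact fun h => hne (h.trans inf_le_right)
    obtain ⟨u, hu, hu0⟩ := SetLike.exists_of_lt (Group.normalizerCondition_of_isNilpotent _ hlt)
    refine hu0 (mem_subgroupOf.mpr (mem_inf.mpr ⟨u.2, ?_⟩))
    have hyU : ∀ (y : G) (hy : y ∈ 𝐘), (⟨y, hYU hy⟩ : U) ∈ U₀.subgroupOf U := fun y hy =>
      mem_subgroupOf.mpr (mem_inf.mpr ⟨hYU hy, Subgroup.le_normalizer hy⟩)
    refine m.mem_normalizer_of_normalizing (hUL u.2) (fun y hy => ?_) fun y hy => ?_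
    · exact (mem_subgroupOf.mp ((mem_normalizer_iff.mp hu _).mp (hyU y hy))).2
    · exact (mem_subgroupOf.mp ((mem_normalizer_iff''.mp hu _).mp (hyU y hy))).2
  intro k hk
  refine m.mem_normalizer_of_normalizing (hKL.le hk) (fun y hy => hUN ?_) fun y hy => hUN ?_
  · exact (mem_normalizer_iff.mp (self_le_normalizer_pCoreOf K hk) y).mp (hYU hy)
  · exact (mem_normalizer_iff''.mp (self_le_normalizer_pCoreOf K hk) y).mp (hYU hy)

theorem inf_normalizer_lt (m : MinL p S M H L) : L ⊓ normalizer (𝐘 : Set G) < L :=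
  lt_of_le_of_ne inf_le_left fun h =>
    m.not_le (le_pCoreOf m.yOf_le (inf_eq_left.mp h) (yOf_isPGroup M))

/-- `⟨Y, Y^v⟩ = L` for every `v ∈ L ∖ N(Y)`. -/
theorem gen_eq (m : MinL p S M H L) {v : G} (hv : v ∈ L) (hvn : v ∉ normalizer (𝐘 : Set G)) :
    𝐘 ⊔ cnj v 𝐘 = L := by
  by_contra hne
  have h1 := m.le_normalizer_of_lt le_sup_left (lt_of_le_of_ne (sup_le m.yOf_le (m.cnj_le hv)) hne)
  refine hvn (m.mem_normalizer_of_normalizing hv (fun y hy => h1 (mem_sup_right (mem_cnj hy))) ?_)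
  have hne' : 𝐘 ⊔ cnj v⁻¹ 𝐘 ≠ L := by
    intro he
    apply hne
    refine le_antisymm (sup_le m.yOf_le (m.cnj_le hv)) fun l hl => ?_
    have hl' : v⁻¹ * l * v ∈ 𝐘 ⊔ cnj v⁻¹ 𝐘 := he.ge (L.mul_mem (L.mul_mem (L.inv_mem hv) hl) hv)
    have hle : 𝐘 ⊔ cnj v⁻¹ 𝐘 ≤ (𝐘 ⊔ cnj v 𝐘).comap (MulAut.conj v).toMonoidHom := by
      refine sup_le (fun y hy => mem_sup_right (mem_cnj hy)) ?_
      rintro _ ⟨y, hy, rfl⟩
      exact mem_sup_left (by simpa [mul_assoc] using hy)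
    have h2 : v * (v⁻¹ * l * v) * v⁻¹ ∈ 𝐘 ⊔ cnj v 𝐘 := hle hl'
    simpa [mul_assoc] using h2
  have h2 := m.le_normalizer_of_lt le_sup_left
    (lt_of_le_of_ne (sup_le m.yOf_le (m.cnj_le (L.inv_mem hv))) hne')
  intro y hy
  simpa using h2 (mem_sup_right (mem_cnj (g := v⁻¹) hy))

/-- `H = ⟨Y^v, O_p(M)⟩` for `v ∈ L ∖ N(Y)`. -/
theorem cnj_sup_eq (m : MinL p S M H L) {v : G} (hv : v ∈ L) (hvn : v ∉ normalizer (𝐘 : Set G)) :
    cnj v 𝐘 ⊔ 𝐑 = H := by
  by_contra hne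
  set P := cnj v 𝐘 ⊔ 𝐑 with hP
  have hlt : P < H := lt_of_le_of_ne (sup_le ((m.cnj_le hv).trans m.le) m.frakH.2.1) hne
  have hLP : L ≤ P := (m.gen_eq hv hvn).ge.trans
    (sup_le ((yOf_le_pCoreOf M).trans le_sup_right) le_sup_left)
  exact m.not_le ((le_inf (m.frakH.2.2.2 P le_sup_right hlt) m.yOf_le).trans (pCoreOf_inf_le hLP))

theorem normalClosure_eq_top (m : MinL p S M H L) :
    normalClosure (((𝐘).subgroupOf L : Subgroup L) : Set L) = ⊤ := by
  obtain ⟨g, hg, hgen⟩ := m.exists_gen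
  refine eq_top_iff.mpr fun x _ => ?_
  have hle : L ≤ (normalClosure (((𝐘).subgroupOf L : Subgroup L) : Set L)).map L.subtype := by
    refine hgen.ge.trans (sup_le (le_normalClosure_map m.yOf_le) ?_)
    rintro _ ⟨y, hy, rfl⟩
    exact (mem_normalizer_iff.mp (le_normalizer_normalClosure_map _ _ hg) y).mp
      (le_normalClosure_map m.yOf_le hy)
  obtain ⟨z, hz, hzx⟩ := hle x.2
  exact L.subtype_injective hzx ▸ hz

theorem isMinimalOver (m : MinL p S M H L) : Cfsg.IsMinimalOver ((𝐘).subgroupOf L) := by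
  set N := (L ⊓ normalizer (𝐘 : Set G)).subgroupOf L with hN
  have hNtop : N ≠ ⊤ := fun h => m.inf_normalizer_lt.not_ge (subgroupOf_eq_top.mp h)
  have hle : ∀ X : Subgroup L, X ≠ ⊤ → (𝐘).subgroupOf L ≤ X → X ≤ N := by
    intro X hX hYX
    have hYX' : 𝐘 ≤ X.map L.subtype := fun y hy =>
      ⟨⟨y, m.yOf_le hy⟩, hYX (mem_subgroupOf.mpr hy), rfl⟩
    have hlt : X.map L.subtype < L := by
      refine lt_of_le_of_ne (map_subtype_le X) fun h => hX ?_
      rw [← map_subtype_inj, h, ← MonoidHom.range_eq_map, range_subtype]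
    intro x hx
    exact mem_subgroupOf.mpr (mem_inf.mpr ⟨x.2, m.le_normalizer_of_lt hYX' hlt ⟨x, hx, rfl⟩⟩)
  have hYN : (𝐘).subgroupOf L ≤ N := fun x hx =>
    mem_subgroupOf.mpr (mem_inf.mpr ⟨x.2, Subgroup.le_normalizer hx⟩)
  refine ⟨m.normalClosure_eq_top, N, ⟨⟨hNtop, fun X hX => ?_⟩, hYN⟩, ?_⟩
  · by_contra hne
    exact hX.not_ge (hle X hne (hYN.trans hX.le))
  · rintro X ⟨hX, hYX⟩
    exact ((hX.le_iff.mp (hle X hX.1 hYX)).resolve_left hNtop).symm

theorem wSub_le_pCoreOf (m : MinL p S M H L) {g : G} (hg : g ∈ L) (hgen : 𝐘 ⊔ cnj g 𝐘 = L) :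
    wSub p M H g ≤ Cfsg.pCoreOf p L :=
  le_pCoreOf (sup_le (inf_le_left.trans (m.cnj_le hg)) (inf_le_left.trans m.yOf_le))
    (fun l hl => (m.le_stab_wSub hg hgen hl).2.1) ((isPGroup_pCoreOf H).to_le (m.wSub_le_core g))

theorem charP (m : MinL p S M H L) :
    centralizer (Cfsg.pCore p ↥L : Set ↥L) ≤ Cfsg.pCore p ↥L := by
  obtain ⟨g, hg, hgen⟩ := m.exists_gen
  refine CharP.charP_of_forall fun x hx hxc => ?_
  have hxo : (orderOf (x : G)).Coprime p := by rwa [Subgroup.orderOf_coe]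
  have hA : ∀ a ∈ 𝐀, Commute a (x : G) := fun a ha => commute_of_mem_stab hxo
    ((isPGroup_pCoreOf H).to_le (m.wSub_le_core g)) (m.le_stab_wSub hg hgen x.2)
    (fun w hw => by
      obtain ⟨r, hr, hrw⟩ := m.wSub_le_pCoreOf hg hgen hw
      rw [← hrw]; exact congrArg Subtype.val (hxc r hr).eq) ha
  have h1 := CharP.eq_one_of_centralizes_pCore m.frakH.1 (y := ⟨(x : G), m.le x.2⟩)
    (by rwa [Subgroup.orderOf_mk]) fun r hr => Subtype.ext (hA r ⟨r, hr, rfl⟩).symm.eq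
  exact Subtype.ext (congrArg (fun z : H => (z : G)) h1)

theorem pRes_sup_yOf (m : MinL p S M H L) : pRes p L ⊔ 𝐘 = L := by
  by_contra hne
  set P₁ := pRes p L ⊔ 𝐘 with hP₁
  have hlt : P₁ < L := lt_of_le_of_ne (sup_le (pRes_le L) m.yOf_le) hne
  obtain ⟨P, ⟨hP, hPlt⟩, hmax⟩ := Set.exists_max_image {P : Subgroup G | P₁ ≤ P ∧ P < L}
    (fun P => Nat.card P) (Set.toFinite _) ⟨P₁, le_rfl, hlt⟩
  have hgt := exists_normalizer_gt (le_sup_left.trans hP) hPlt
  rcases eq_or_lt_of_le (inf_le_left : L ⊓ normalizer (P : Set G) ≤ L) with heq | hlt'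
  · refine hPlt.not_ge ?_
    have h := normalClosure_map_le ((le_sup_right : 𝐘 ≤ P₁).trans hP) (inf_eq_left.mp heq)
    rwa [m.normalClosure_eq_top, ← MonoidHom.range_eq_map, range_subtype] at h
  · exact hgt.ne (eq_of_le_of_card_ge hgt.le (hmax _ ⟨hP.trans hgt.le, hlt'⟩))

/-- `O^p(L)` acts nontrivially on every noncentral chief factor of `H` in `O_p(H)`. -/
theorem not_commutator_le (m : MinL p S M H L) {V W : Subgroup G} (hV : V ≤ 𝐀)
    (hVn : H ≤ normalizer (V : Set G)) (hWn : H ≤ normalizer (W : Set G)) (hWV : W < V)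
    (hchief : ∀ Z : Subgroup G, H ≤ normalizer (Z : Set G) → W ≤ Z → Z ≤ V → Z = W ∨ Z = V)
    (hnc : ¬ ⁅V, H⁆ ≤ W) : ¬ ⁅V, pRes p L⁆ ≤ W := by
  intro hres
  set Kc := H ⊓ stab V W with hKc
  have hVH : V ≤ H := hV.trans (pCoreOf_le H)
  have hKcn : H ≤ normalizer (Kc : Set G) := fun g hg => Coprime.mem_normalizer_of_forall fun k hk =>
    mem_inf.mpr ⟨mul_mem (mul_mem hg hk.1) (inv_mem hg), conj_mem_stab (hVn hg) (hWn hg) hk.2⟩
  have hmem : ∀ k ∈ H, (∀ v ∈ V, v * k * v⁻¹ * k⁻¹ ∈ W) → k ∈ Kc := fun k hk h =>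
    mem_inf.mpr ⟨hk, hVn hk, hWn hk, fun v hv => by
      have := inv_mem (h v hv); convert this using 1; group⟩
  have hE : pRes p L ≤ Kc := fun k hk => hmem k (m.le (pRes_le L hk)) fun v hv =>
    hres (commutator_mem_commutator hv hk)
  have hHKR : H ≤ 𝐑 ⊔ Kc := m.sup_pCoreOf_eq.ge.trans (sup_le
    ((m.pRes_sup_yOf).ge.trans
      (sup_le (hE.trans le_sup_right) ((yOf_le_pCoreOf M).trans le_sup_left))) le_sup_left)
  set R := Cfsg.pCoreOf p M with hR
  have hRH : R ≤ H := m.frakH.2.1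
  set T := V ⊔ R with hT
  have hTH : T ≤ H := sup_le hVH hRH
  have hTp : IsPGroup p T := IsPGroup.to_sup_of_normal_left' ((isPGroup_pCoreOf H).to_le hV)
    (isPGroup_pCoreOf M) (hRH.trans hVn)
  haveI : (W.subgroupOf T).Normal := Cores.subgroupOf_normal_of_le_normalizer (hTH.trans hWn)
  haveI : (V.subgroupOf T).Normal := Cores.subgroupOf_normal_of_le_normalizer (hTH.trans hVn)
  set π := QuotientGroup.mk' (W.subgroupOf T)
  haveI : ((V.subgroupOf T).map π).Normal := Normal.map inferInstance π (QuotientGroup.mk'_surjective _)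
  have hne : (V.subgroupOf T).map π ≠ ⊥ := by
    rw [Ne, Subgroup.map_eq_bot_iff, QuotientGroup.ker_mk']
    exact fun h => hWV.not_ge fun v hv => mem_subgroupOf.mp
      (h (mem_subgroupOf.mpr hv : (⟨v, mem_sup_left hv⟩ : T) ∈ V.subgroupOf T))
  haveI : Nontrivial ↥(((V.subgroupOf T).map π) ⊓ center (T ⧸ W.subgroupOf T)) := by
    rw [Subgroup.nontrivial_iff_ne_bot]
    exact PGroup.inf_center_ne_bot (hTp.to_quotient _) hne
  obtain ⟨z, hz⟩ := exists_ne (1 : ↥(((V.subgroupOf T).map π) ⊓ center (T ⧸ W.subgroupOf T)))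
  obtain ⟨w, hw, hwz⟩ := z.2.1
  set C := V ⊓ intoSub R W with hC
  have hwC : (w : G) ∈ C := by
    refine mem_inf.mpr ⟨hw, hWn (hTH w.2), fun r hr => ?_⟩
    have hc : π (w * ⟨r, mem_sup_right hr⟩ * w⁻¹ * ⟨r, mem_sup_right hr⟩⁻¹) = 1 := by
      rw [map_mul, map_mul, map_mul, hwz, ← (mem_center_iff.mp z.2.2 (π ⟨r, mem_sup_right hr⟩)),
        map_inv, hwz, map_inv]
      group
    exact mem_subgroupOf.mp ((QuotientGroup.eq_one_iff _).mp hc)
  have hWC : W ≤ C := fun x hx => mem_inf.mpr ⟨hWV.le hx, Subgroup.le_normalizer hx, fun r hr =>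
    mul_mem (mul_mem hx ((mem_normalizer_iff.mp (hWn (hRH hr)) _).mp (inv_mem hx)) |> fun h => by
      convert h using 1; group) (one_mem W) |> fun h => by simpa using h⟩
  have hRC : R ≤ normalizer (C : Set G) := fun r hr => Coprime.mem_normalizer_of_forall fun x hx => by
    refine mem_inf.mpr ⟨(mem_normalizer_iff.mp (hVn (hRH hr)) x).mp hx.1,
      mul_mem (mul_mem (hWn (hRH hr)) hx.2.1) (inv_mem (hWn (hRH hr))), fun s hs => ?_⟩
    have h1 := (mem_normalizer_iff.mp (hWn (hRH hr)) _).mp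
      (hx.2.2 (r⁻¹ * s * r) (mul_mem (mul_mem (inv_mem hr) hs) hr))
    convert h1 using 1; group
  have hKC : Kc ≤ normalizer (C : Set G) := fun k hk => Coprime.mem_normalizer_of_forall fun x hx => by
    have := mul_mem (hWC (hk.2.2.2 x hx.1)) hx
    simpa using this
  rcases hchief C (hHKR.trans (sup_le hRC hKC)) hWC inf_le_left with h | h
  · refine hz (Subtype.ext ?_)
    rw [OneMemClass.coe_one, ← hwz, QuotientGroup.mk'_apply, QuotientGroup.eq_one_iff]
    exact mem_subgroupOf.mpr (h ▸ hwC)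
  · refine hnc ((commutator_le).mpr fun v hv k hk => ?_)
    have hRK : R ≤ Kc := fun r hr => hmem r (hRH hr) fun v hv => (h.ge hv).2.2 r hr
    have hk' : k ∈ Kc := (hHKR.trans (sup_le hRK le_rfl)) hk
    have := inv_mem (hk'.2.2.2 v hv)
    convert this using 1; rw [commutatorElement_def]; group

theorem pCoreOf_le_normalizer_yOf (m : MinL p S M H L) :
    Cfsg.pCoreOf p L ≤ normalizer (𝐘 : Set G) := by
  set K := Cfsg.pCoreOf p L ⊔ 𝐘 with hK
  have hKL : K ≤ L := sup_le (pCoreOf_le L) m.yOf_le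
  have hKp : IsPGroup p K := IsPGroup.to_sup_of_normal_left' (isPGroup_pCoreOf L) (yOf_isPGroup M)
    (m.yOf_le.trans (self_le_normalizer_pCoreOf L))
  refine le_sup_left.trans (m.le_normalizer_of_lt le_sup_right (lt_of_le_of_ne hKL fun h => m.not_le ?_))
  exact m.yOf_le.trans (le_pCoreOf le_rfl Subgroup.le_normalizer (h ▸ hKp))

/-- The normal closure of `O_p(L) ∩ Y` in `L` lies in `O_p(H)`. -/
theorem normalClosure_inf_le (m : MinL p S M H L) :
    (normalClosure (((Cfsg.pCoreOf p L ⊓ 𝐘).subgroupOf L : Subgroup L) : Set L)).map L.subtype ≤ 𝐀 := by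
  obtain ⟨g, hg, hgen⟩ := m.exists_gen
  set Y := Cfsg.largestPReducedOf p M with hY
  set A := Cfsg.pCoreOf p H with hA
  set R := Cfsg.pCoreOf p M with hR
  set W := wSub p M H g with hW
  set Z₁ := Y ⊓ cnj g Y ⊓ A with hZ₁
  set E := A ⊓ centralizer (L : Set G) with hE
  set B := W ⊔ E with hB
  have hRH : R ≤ H := m.frakH.2.1
  have hHA : H ≤ normalizer (A : Set G) := self_le_normalizer_pCoreOf H
  have hBA : B ≤ A := sup_le (m.wSub_le_core g) inf_le_left
  have hBn : H ≤ normalizer (B : Set G) := by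
    refine m.sup_pCoreOf_eq.ge.trans (sup_le ?_ fun r hr => ?_)
    · refine (le_inf (fun l hl => (m.le_stab_wSub hg hgen hl).2.1) ?_).trans
        (normalizer_inf_normalizer_le_normalizer_sup _ _)
      exact (le_inf m.core_normalized (Subgroup.le_normalizer.trans centralizer_normalized)).trans
        inf_normalizer_le_normalizer_inf
    · refine Coprime.mem_normalizer_of_forall fun b hb => ?_
      have h1 : r * b * r⁻¹ * b⁻¹ ∈ A ⊓ centralizer (Y : Set G) := by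
        refine mem_inf.mpr ⟨mul_mem ((mem_normalizer_iff.mp (hRH.trans hHA hr) b).mp (hBA hb))
          (inv_mem (hBA hb)), pCoreOf_le_centralizer_yOf M ?_⟩
        have := mul_mem hr ((mem_normalizer_iff.mp
          (m.hyp.pCoreOf_le_normalizer m.frakH.2.1 (hBA hb)) r⁻¹).mp (inv_mem hr))
        convert this using 1; group
      obtain ⟨z, hz, he⟩ := m.exists_mul_mem_centralizer h1
      have h2 : r * b * r⁻¹ * b⁻¹ ∈ B := by
        have := mul_mem (inv_mem (mem_sup_left (T := E) (mem_sup_right (S := cnj g Y ⊓ A) hz)))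
          (mem_sup_right (S := W) (mem_inf.mpr ⟨mul_mem hz.2 h1.1, he⟩ : z * (r * b * r⁻¹ * b⁻¹) ∈ E))
        simpa using this
      simpa using mul_mem h2 hb
  have hHZ : H ≤ centralizer (Z₁ : Set G) := m.sup_pCoreOf_eq.ge.trans (sup_le
    (fun l hl => mem_centralizer_iff.mpr fun z hz => (mem_centralizer_iff.mp
      (m.mem_centralizer_of_gen hgen
        (PReduced.le_centralizer_of_isMulCommutative (yOf_elementary M).1 hz.1.1)
        (mem_centralizer_iff.mpr fun x hx => m.cnj_commute hx hz.1.2)) l hl).symm)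
    ((pCoreOf_le_centralizer_yOf M).trans
      (centralizer_le (SetLike.coe_subset_coe.mpr (inf_le_left.trans inf_le_left)))))
  have hZn : H ≤ normalizer (Z₁ : Set G) := hHZ.trans (centralizer_le_normalizer _)
  set U := H ⊓ stab A B ⊓ stab B Z₁ with hU
  have hUH : U ≤ H := inf_le_left.trans inf_le_left
  have hUn : H ≤ normalizer (U : Set G) := fun a ha => Coprime.mem_normalizer_of_forall fun k hk =>
    mem_inf.mpr ⟨mem_inf.mpr ⟨mul_mem (mul_mem ha (hUH hk)) (inv_mem ha),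
      conj_mem_stab (hHA ha) (hBn ha) hk.1.2⟩, conj_mem_stab (hBn ha) (hZn ha) hk.2⟩
  have hUp : IsPGroup p U := CharP.isPGroup_of_coprime_eq_one fun k hk hkp => by
    have hkB : ∀ b ∈ B, Commute b k := fun b hb => commute_of_mem_stab hkp
      ((isPGroup_pCoreOf H).to_le inf_le_right) hk.2
      (fun z hz => (mem_centralizer_iff.mp (hHZ (hUH hk)) z hz).symm) hb
    have hkA : ∀ a ∈ A, Commute a k := fun a ha => commute_of_mem_stab hkp
      ((isPGroup_pCoreOf H).to_le hBA) hk.1.2 (fun b hb => (hkB b hb).symm) ha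
    exact congrArg Subtype.val (CharP.eq_one_of_centralizes_pCore m.frakH.1 (y := ⟨k, hUH hk⟩)
      (by rwa [Subgroup.orderOf_mk]) fun r hr => Subtype.ext (hkA r ⟨r, hr, rfl⟩).symm.eq)
  refine (normalClosure_map_le ?_ (m.le.trans hUn)).trans (le_pCoreOf hUH hUn hUp)
  rintro x ⟨hxO, hxY⟩
  have hxH : x ∈ H := m.le (m.yOf_le hxY)
  refine mem_inf.mpr ⟨mem_inf.mpr ⟨hxH, hHA hxH, hBn hxH, fun a ha =>
    mem_sup_left (mem_sup_right (m.commutator_mem hxY ha))⟩, hBn hxH, hZn hxH, fun b hb => ?_⟩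
  have hxg : x ∈ normalizer (cnj g Y : Set G) := by
    rw [← map_normalizer_eq_of_bijective _ (MulAut.conj g).bijective]
    exact ⟨g⁻¹ * x * g, m.pCoreOf_le_normalizer_yOf
      ((mem_normalizer_iff''.mp (self_le_normalizer_pCoreOf L hg) x).mp hxO), by simp [mul_assoc]⟩
  have hWE : W ≤ normalizer (E : Set G) :=
    (sup_le (inf_le_left.trans (m.cnj_le hg)) (inf_le_left.trans m.yOf_le)).trans
      ((le_inf m.core_normalized (Subgroup.le_normalizer.trans centralizer_normalized)).trans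
        inf_normalizer_le_normalizer_inf)
  obtain ⟨w, hw, e, he, rfl⟩ := (mem_sup_mul hWE).mp hb
  obtain ⟨z', hz', z, hz, rfl⟩ := (m.mem_wSub_iff hg).mp hw
  have e1 : x * e = e * x := mem_centralizer_iff.mp he.2 x (m.yOf_le hxY)
  have e2 : x * z = z * x := PReduced.commute_of_isMulCommutative (yOf_elementary M).1 hxY hz.1
  have heq : x * (z' * z * e) * x⁻¹ * (z' * z * e)⁻¹ = x * z' * x⁻¹ * z'⁻¹ := by
    calc x * (z' * z * e) * x⁻¹ * (z' * z * e)⁻¹
        = x * z' * x⁻¹ * (x * z) * e * x⁻¹ * (e⁻¹ * z⁻¹ * z'⁻¹) := by group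
      _ = x * z' * x⁻¹ * z * (x * e) * x⁻¹ * (e⁻¹ * z⁻¹ * z'⁻¹) := by rw [e2]; group
      _ = _ := by rw [e1]; group
  rw [heq]
  have h1 := m.commutator_mem hxY hz'.2
  exact mem_inf.mpr ⟨mem_inf.mpr ⟨h1.1,
    mul_mem ((mem_normalizer_iff.mp hxg z').mp hz'.1) (inv_mem hz'.1)⟩, h1.2⟩

end MinL

end Cfsg.Agent.LargeSub
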